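import Mathlib

/-!
The number of subgroups of a given prime power order is `1` modulo the prime; `p`-groups with a
unique subgroup of some order are cyclic.
-/

set_option autoImplicit false

namespace CfsgLib.SubgroupCount

open Subgroup
open scoped Pointwise

universe u

variable {G : Type u} [Group G]

section Subsets

variable [Fintype G] [DecidableEq G]

/-- The right coset `H * x` as a finset. -/
noncomputable def rightCosetFinset (H : Subgroup G) (x : G) : Finset G :=
  (H : Set G).toFinite.toFinset.image (fun h => h * x)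

theorem mem_rightCosetFinset {H : Subgroup G} {x y : G} :
    y ∈ rightCosetFinset H x ↔ y * x⁻¹ ∈ H := by
  simp only [rightCosetFinset, Finset.mem_image, Set.Finite.mem_toFinset, SetLike.mem_coe]
  exact ⟨fun ⟨h, hh, e⟩ => by simpa [← e] using hh, fun h => ⟨_, h, by simp⟩⟩

theorem card_rightCosetFinset (H : Subgroup G) (x : G) :
    (rightCosetFinset H x).card = Nat.card H := by
  rw [rightCosetFinset, Finset.card_image_of_injective _ (mul_left_injective x),
    ← Set.ncard_eq_toFinset_card _, ← Nat.card_coe_set_eq]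
  rfl

theorem rightCosetFinset_eq_iff {H : Subgroup G} {x y : G} :
    rightCosetFinset H y = rightCosetFinset H x ↔ y * x⁻¹ ∈ H := by
  refine ⟨fun h => mem_rightCosetFinset.1 (h ▸ mem_rightCosetFinset.2 (by simp)), fun h => ?_⟩
  ext z
  rw [mem_rightCosetFinset, mem_rightCosetFinset, show z * x⁻¹ = z * y⁻¹ * (y * x⁻¹) by group]
  exact (H.mul_mem_cancel_right h).symm

theorem stabilizer_rightCosetFinset (H : Subgroup G) (x : G) :
    MulAction.stabilizer G (rightCosetFinset H x) = H := by
  ext g
  rw [MulAction.mem_stabilizer_iff]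
  constructor
  · intro h
    have h1 : g * x ∈ rightCosetFinset H x := by
      have h2 : g • x ∈ g • rightCosetFinset H x :=
        Finset.smul_mem_smul_finset (mem_rightCosetFinset.2 (by simp))
      rwa [h] at h2
    simpa using mem_rightCosetFinset.1 h1
  · intro hg
    refine Finset.eq_of_subset_of_card_le (fun z hz => ?_) (by rw [Finset.card_smul_finset])
    obtain ⟨w, hw, rfl⟩ := Finset.mem_smul_finset.1 hz
    rw [mem_rightCosetFinset] at hw ⊢
    rw [smul_eq_mul, mul_assoc]
    exact H.mul_mem hg hw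

theorem rightCosetFinset_subset {s : Finset G} {x : G} (hx : x ∈ s) :
    rightCosetFinset (MulAction.stabilizer G s) x ⊆ s := by
  intro y hy
  rw [mem_rightCosetFinset, MulAction.mem_stabilizer_iff] at hy
  rw [← hy]
  exact Finset.mem_smul_finset.2 ⟨x, hx, by simp⟩

theorem card_stabilizer_dvd (s : Finset G) : Nat.card (MulAction.stabilizer G s) ∣ s.card := by
  rw [Finset.card_eq_sum_card_image (rightCosetFinset (MulAction.stabilizer G s)) s]
  refine Finset.dvd_sum fun c hc => ?_
  obtain ⟨x, hx, rfl⟩ := Finset.mem_image.1 hc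
  rw [show s.filter (fun y => rightCosetFinset (MulAction.stabilizer G s) y =
      rightCosetFinset (MulAction.stabilizer G s) x) =
      rightCosetFinset (MulAction.stabilizer G s) x by
    ext y
    rw [Finset.mem_filter, rightCosetFinset_eq_iff, mem_rightCosetFinset]
    exact ⟨fun h => h.2, fun h => ⟨rightCosetFinset_subset hx (mem_rightCosetFinset.2 h), h⟩⟩,
    card_rightCosetFinset]

theorem eq_rightCosetFinset {s : Finset G} (h : Nat.card (MulAction.stabilizer G s) = s.card)
    {x : G} (hx : x ∈ s) : rightCosetFinset (MulAction.stabilizer G s) x = s :=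
  Finset.eq_of_subset_of_card_le (rightCosetFinset_subset hx)
    (by rw [card_rightCosetFinset, h])

/-- Counting the subsets of size `p ^ β` by their stabilizers. -/
theorem choose_modEq {p β : ℕ} (hp : p.Prime) (hdiv : p ^ β ∣ Nat.card G) :
    Nat.choose (Nat.card G) (p ^ β) ≡
      Nat.card {H : Subgroup G // Nat.card H = p ^ β} * (Nat.card G / p ^ β)
      [MOD p * (Nat.card G / p ^ β)] := by
  classical
  set k := p ^ β with hk
  set n := Nat.card G with hn
  set q := n / k with hq
  have hn' : q * k = n := Nat.div_mul_cancel hdiv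
  have hkpos : 0 < k := pow_pos hp.pos β
  set X := (Finset.univ : Finset G).powersetCard k with hX
  have hXcard : X.card = n.choose k := by
    rw [hX, Finset.card_powersetCard, Finset.card_univ, hn, Nat.card_eq_fintype_card]
  set M := X.filter (fun s => Nat.card (MulAction.stabilizer G s) = k)
  set R := X.filter (fun s => ¬ Nat.card (MulAction.stabilizer G s) = k) with hR
  have hsplit : X.card = M.card + R.card := (Finset.card_filter_add_card_filter_not _).symm
  have hRdvd : p * q ∣ R.card := by
    rw [Finset.card_eq_sum_card_image (fun s => MulAction.orbit G s) R]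
    refine Finset.dvd_sum fun c hc => ?_
    obtain ⟨s, hs, rfl⟩ := Finset.mem_image.1 hc
    rw [hR, Finset.mem_filter, hX, Finset.mem_powersetCard] at hs
    have hfib : ((R.filter fun t => MulAction.orbit G t = MulAction.orbit G s : Finset (Finset G))
        : Set (Finset G)) = MulAction.orbit G s := by
      ext t
      simp only [Finset.coe_filter, Set.mem_setOf_eq, MulAction.orbit_eq_iff]
      refine ⟨fun h => h.2, ?_⟩
      intro h
      refine ⟨?_, h⟩
      obtain ⟨g, rfl⟩ := h
      rw [hR, Finset.mem_filter, hX, Finset.mem_powersetCard]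
      refine ⟨⟨Finset.subset_univ _, by simp [hs.1.2]⟩, ?_⟩
      rw [Nat.card_congr (MulAction.stabilizerEquivStabilizer (rfl : g • s = g • s)).symm.toEquiv]
      exact hs.2
    rw [← Set.ncard_coe_finset, hfib, ← MulAction.index_stabilizer]
    obtain ⟨j, hj, hj'⟩ := (Nat.dvd_prime_pow hp).1 (hs.1.2 ▸ card_stabilizer_dvd s)
    have hjlt : j < β := lt_of_le_of_ne hj fun h => hs.2 (by rw [hj', h])
    have h1 := index_mul_card (MulAction.stabilizer G s)
    rw [hj', ← hn, ← hn'] at h1
    refine ⟨p ^ (β - j - 1), Nat.eq_of_mul_eq_mul_right (pow_pos hp.pos j) ?_⟩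
    rw [h1, hk]
    conv_lhs => rw [show β = 1 + (β - j - 1) + j by omega]
    ring
  have hM : M.card = Nat.card {H : Subgroup G // Nat.card H = k} * q := by
    rw [Nat.card_eq_fintype_card, Fintype.card_subtype,
      Finset.card_eq_sum_card_fiberwise (f := fun s => MulAction.stabilizer G s)
        (t := Finset.univ.filter fun H : Subgroup G => Nat.card H = k)]
    · refine Finset.sum_const_nat fun H hH => ?_
      simp only [Finset.mem_filter, Finset.mem_univ, true_and] at hH
      have hset : M.filter (fun s => MulAction.stabilizer G s = H)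
          = Finset.univ.image (rightCosetFinset H) := by
        ext s
        simp only [M, hX, Finset.mem_filter, Finset.mem_powersetCard, Finset.mem_image,
          Finset.mem_univ, true_and]
        constructor
        · rintro ⟨⟨⟨-, hs⟩, hst⟩, rfl⟩
          obtain ⟨x, hx⟩ : s.Nonempty := Finset.card_pos.1 (hs ▸ hkpos)
          exact ⟨x, eq_rightCosetFinset (hst.trans hs.symm) hx⟩
        · rintro ⟨x, rfl⟩
          rw [stabilizer_rightCosetFinset, card_rightCosetFinset]
          exact ⟨⟨⟨Finset.subset_univ _, hH⟩, hH⟩, rfl⟩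
      rw [hset]
      have h2 := Finset.card_eq_sum_card_image (rightCosetFinset H) (Finset.univ : Finset G)
      rw [Finset.sum_const_nat (m := k) fun c hc => ?_, Finset.card_univ,
        ← Nat.card_eq_fintype_card, ← hn, ← hn'] at h2
      · exact (Nat.eq_of_mul_eq_mul_right hkpos h2).symm
      · obtain ⟨x, -, rfl⟩ := Finset.mem_image.1 hc
        rw [show Finset.univ.filter (fun y => rightCosetFinset H y = rightCosetFinset H x)
            = rightCosetFinset H x by
          ext y
          simp [rightCosetFinset_eq_iff, mem_rightCosetFinset], card_rightCosetFinset, hH]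
    · intro s hs
      simpa [M] using (Finset.mem_filter.1 hs).2
  rw [← hXcard, hsplit, hM]
  exact Nat.modEq_of_dvd (Dvd.dvd.trans (Int.natCast_dvd_natCast.2 hRdvd)
    ⟨-1, by push_cast; ring⟩)

end Subsets

/-- The number of subgroups of order `p ^ β` is `1` modulo `p`. -/
theorem card_subgroups_modEq_one [Finite G] {p β : ℕ} (hp : p.Prime)
    (hdiv : p ^ β ∣ Nat.card G) :
    Nat.card {H : Subgroup G // Nat.card H = p ^ β} ≡ 1 [MOD p] := by
  classical
  have : Fintype G := Fintype.ofFinite G
  set n := Nat.card G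
  have hn0 : n ≠ 0 := Nat.card_pos.ne'
  have : NeZero n := ⟨hn0⟩
  let C := Multiplicative (ZMod n)
  have hC : Nat.card C = n := by simp [C, Nat.card_zmod]
  have h1 : Nat.card {H : Subgroup C // Nat.card H = p ^ β} = 1 := by
    obtain ⟨g, hg⟩ := IsCyclic.exists_generator (α := C)
    have hog : orderOf g = n := by rw [orderOf_eq_card_of_forall_mem_zpowers hg, hC]
    have : Subsingleton {H : Subgroup C // Nat.card H = p ^ β} := by
      refine ⟨fun H K => Subtype.ext ?_⟩
      have key : ∀ L : Subgroup C, Nat.card L = p ^ β →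
          ∀ z : C, z ∈ L ↔ z ^ p ^ β = 1 := by
        intro L hL
        have hsub : (L : Set C) ⊆ {z : C | z ^ p ^ β = 1} := fun z hz => by
          rw [← hL]; exact congrArg Subtype.val (pow_card_eq_one' (x := (⟨z, hz⟩ : L)))
        have hle : {z : C | z ^ p ^ β = 1}.ncard ≤ (L : Set C).ncard := by
          rw [← Nat.card_coe_set_eq (L : Set C)]
          show _ ≤ Nat.card L
          rw [hL, Set.ncard_eq_toFinset_card']
          simpa [Set.toFinset_setOf] using
            IsCyclic.card_pow_eq_one_le (α := C) (pow_pos hp.pos β)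
        intro z
        exact Set.ext_iff.1 (Set.eq_of_subset_of_ncard_le hsub hle (Set.toFinite _)) z
      exact Subgroup.ext fun z => (key _ H.2 z).trans (key _ K.2 z).symm
    rw [Nat.card_eq_one_iff_unique]
    refine ⟨inferInstance, ⟨⟨zpowers (g ^ (n / p ^ β)), ?_⟩⟩⟩
    rw [Nat.card_zpowers, show n / p ^ β = orderOf g / p ^ β by rw [hog],
      orderOf_pow_orderOf_div (hog.symm ▸ hn0) (hog.symm ▸ hdiv)]
  have e1 := choose_modEq (G := G) hp hdiv
  have e2 := choose_modEq (G := C) hp (hC.symm ▸ hdiv)
  rw [hC, h1, one_mul] at e2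
  have e3 := e1.symm.trans e2
  have hq : n / p ^ β ≠ 0 := (Nat.div_pos (Nat.le_of_dvd Nat.card_pos hdiv) (pow_pos hp.pos β)).ne'
  exact Nat.ModEq.mul_right_cancel' (m := p) hq (by rwa [one_mul])

/-- The number of normal subgroups of given order in a `p`-group is `1` modulo `p`. -/
theorem card_normal_modEq_one [Finite G] {p m s : ℕ} (hp : p.Prime) (hG : Nat.card G = p ^ m)
    (hs : s ≤ m) :
    Nat.card {H : Subgroup G // H.Normal ∧ Nat.card H = p ^ s} ≡ 1 [MOD p] := by
  have : Fact p.Prime := ⟨hp⟩
  let α := {H : Subgroup G // Nat.card H = p ^ s}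
  letI act : MulAction G α :=
    { smul := fun g H => ⟨H.1.map (MulAut.conj g).toMonoidHom, by
        rw [card_map_of_injective (MulAut.conj g).injective]; exact H.2⟩
      one_smul := fun H => Subtype.ext (by
        show H.1.map _ = H.1
        rw [map_one]; exact H.1.map_id)
      mul_smul := fun a b H => Subtype.ext (by
        show H.1.map _ = (H.1.map _).map _
        rw [Subgroup.map_map, map_mul]; rfl) }
  have h1 := (IsPGroup.of_card hG).card_modEq_card_fixedPoints (α := α)
  have h2 : Nat.card (MulAction.fixedPoints G α) =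
      Nat.card {H : Subgroup G // H.Normal ∧ Nat.card H = p ^ s} := by
    refine Nat.card_congr ?_
    refine
      { toFun := fun H => ⟨H.1.1, ⟨fun x hx g => ?_⟩, H.1.2⟩
        invFun := fun H => ⟨⟨H.1, H.2.2⟩, fun g => Subtype.ext ?_⟩
        left_inv := fun _ => rfl
        right_inv := fun _ => rfl }
    · have := congrArg Subtype.val (H.2 g)
      change H.1.1.map _ = H.1.1 at this
      rw [← this]
      exact ⟨x, hx, rfl⟩
    · show H.1.map _ = H.1
      have := H.2.1
      exact Normal.map_conj_eq (H := H.1) g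
  rw [← h2]
  exact h1.symm.trans (card_subgroups_modEq_one hp (hG ▸ pow_dvd_pow p hs))

/-! ### `p`-groups with a unique subgroup of some order -/

/-- In a `p`-group with a cyclic subgroup `⟨x⟩` of index `p`, an element outside with `y ^ p`
in `⟨x ^ p⟩`, acting like an element `≡ 1` (mod `p`, or mod `4` if `p = 2`), can be corrected to
an element of order `p`. -/
theorem exists_pow_eq_one_of_cyclic_index {p : ℕ} (hp : p.Prime) (x y : G) {k : ℕ}
    (hx : orderOf x = p ^ k) (r j : ℤ) (hr : y * x * y⁻¹ = x ^ r)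
    (hr1 : (p : ℤ) ∣ r - 1) (hr4 : p = 2 → (4 : ℤ) ∣ r - 1) (hj : y ^ p = x ^ ((p : ℤ) * j)) :
    ∃ a : ℤ, (x ^ a * y) ^ p = 1 := by
  have hS : ∀ (a : ℤ) (n : ℕ),
      (x ^ a * y) ^ n = x ^ (a * ∑ i ∈ Finset.range n, r ^ i) * y ^ n := by
    intro a n
    induction n with
    | zero => simp
    | succ n ih =>
      rw [pow_succ' (x ^ a * y), ih, geom_sum_succ]
      generalize (∑ i ∈ Finset.range n, r ^ i) = S
      calc x ^ a * y * (x ^ (a * S) * y ^ n)
          = x ^ a * (y * x * y⁻¹) ^ (a * S) * (y * y ^ n) := by rw [conj_zpow]; group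
        _ = x ^ (a * (r * S + 1)) * y ^ (n + 1) := by
          rw [hr, ← zpow_mul, ← zpow_add, pow_succ']; ring_nf
  obtain ⟨u, hu, hSu⟩ : ∃ u : ℤ, ¬ (p : ℤ) ∣ u ∧ ∑ i ∈ Finset.range p, r ^ i = (p : ℤ) * u := by
    obtain ⟨t, ht⟩ := hr1
    rcases hp.eq_two_or_odd' with rfl | hodd
    · obtain ⟨w, hw⟩ := hr4 rfl
      refine ⟨1 + 2 * w, ?_, ?_⟩
      · push_cast; omega
      · simp [Finset.sum_range_succ]; linarith
    · have h2 := odd_sq_dvd_geom_sum₂_sub (p := p) (R := ℤ) 1 t hodd
      simp only [one_pow, mul_one, show (1 : ℤ) + p * t = r by linarith] at h2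
      obtain ⟨w, hw⟩ := h2
      refine ⟨1 + p * w, ?_, by linarith⟩
      intro hd
      have : (p : ℤ) ∣ 1 := by
        have := dvd_sub hd (Dvd.intro w rfl : (p : ℤ) ∣ p * w)
        simpa using this
      have h1 := Int.le_of_dvd one_pos this
      have := hp.two_le
      omega
  have hcop : IsCoprime u ((p : ℤ) ^ k) :=
    (((Nat.prime_iff_prime_int.1 hp).coprime_iff_not_dvd.2 hu).symm).pow_right
  obtain ⟨a, b, hab⟩ := hcop
  refine ⟨-(j * a), ?_⟩
  rw [hS, hSu, hj, ← zpow_add, ← orderOf_dvd_iff_zpow_eq_one, hx]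
  refine ⟨(p : ℤ) * j * b, ?_⟩
  push_cast
  linear_combination -(p : ℤ) * j * hab

/-- A `p`-group with a unique subgroup of order `p` (and of order `4` if `p = 2`) is cyclic. -/
theorem isCyclic_of_unique {p : ℕ} (hp : p.Prime) : ∀ (n : ℕ) {G : Type u} [Group G] [Finite G],
    Nat.card G = p ^ n →
    (∀ a b : G, orderOf a = p → orderOf b = p → b ∈ zpowers a) →
    (p = 2 → ∀ H K : Subgroup G, Nat.card H = 4 → Nat.card K = 4 → H = K) → IsCyclic G := by
  intro n
  induction n with
  | zero =>
    intro G _ _ hG _ _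
    rw [pow_zero] at hG
    have := (Nat.card_eq_one_iff_unique.1 hG).1
    infer_instance
  | succ n ih =>
    intro G _ _ hG hu hu4
    have : Fact p.Prime := ⟨hp⟩
    by_contra hnc
    obtain ⟨M, hM⟩ := Sylow.exists_subgroup_card_pow_prime (G := G) p
      (n := n) (hG ▸ pow_dvd_pow p (Nat.le_succ n))
    have hMc : IsCyclic M := by
      refine ih hM (fun a b ha hb => ?_) (fun hp2 H K hH hK => ?_)
      · obtain ⟨i, hi⟩ := mem_zpowers_iff.1 (hu a b (by rwa [orderOf_coe]) (by rwa [orderOf_coe]))
        exact ⟨i, Subtype.ext (by simpa using hi)⟩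
      · refine map_injective M.subtype_injective (hu4 hp2 _ _ ?_ ?_)
        · rwa [card_map_of_injective M.subtype_injective]
        · rwa [card_map_of_injective M.subtype_injective]
    have hMidx : M.index = p := by
      have := index_mul_card M
      rw [hM, hG, pow_succ'] at this
      exact Nat.eq_of_mul_eq_mul_right (pow_pos hp.pos n) this
    have hMn : M.Normal := normal_of_index_eq_minFac_card (by
      rw [hMidx, hG, Nat.pow_minFac (Nat.succ_ne_zero n), hp.minFac_eq])
    obtain ⟨⟨x, hxM⟩, hxgen⟩ := hMc.exists_generator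
    have hMz : M = zpowers x := by
      refine le_antisymm (fun z hz => ?_) (zpowers_le.2 hxM)
      obtain ⟨i, hi⟩ := mem_zpowers_iff.1 (hxgen ⟨z, hz⟩)
      exact ⟨i, congrArg Subtype.val hi⟩
    have hxo : orderOf x = p ^ n := by rw [← Nat.card_zpowers, ← hMz, hM]
    obtain ⟨y, hy⟩ : ∃ y, y ∉ M := by
      by_contra hall
      push Not at hall
      have := index_eq_one.2 ((eq_top_iff' M).2 hall)
      rw [hMidx] at this
      exact hp.ne_one this
    have hypM : y ^ p ∈ M := hMidx ▸ M.pow_index_mem y
    obtain ⟨i, hi⟩ := mem_zpowers_iff.1 (hMz ▸ hypM)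
    -- `y ^ p` is not a generator of `M`
    have hpi : n ≠ 0 → (p : ℤ) ∣ i := by
      intro hn
      by_contra hnd
      apply hnc
      refine ⟨⟨y, fun z => ?_⟩⟩
      have hcop : IsCoprime i ((p : ℤ) ^ n) :=
        (((Nat.prime_iff_prime_int.1 hp).coprime_iff_not_dvd.2 hnd).symm).pow_right
      obtain ⟨a, b, hab⟩ := hcop
      have hxy : x ∈ zpowers y := by
        have : x = (y ^ p) ^ a := by
          rw [← hi, ← zpow_mul]
          conv_lhs => rw [← zpow_one x, ← hab, zpow_add, mul_comm a i, mul_comm b _, zpow_mul _ ((p:ℤ) ^ n),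
            show x ^ ((p : ℤ) ^ n) = 1 by
              rw [← orderOf_dvd_iff_zpow_eq_one, hxo]; push_cast; exact dvd_rfl,
            one_zpow, mul_one]
        rw [this]
        exact zpow_mem (pow_mem (mem_zpowers y) p) a
      have hle : M ≤ zpowers y := hMz ▸ zpowers_le.2 hxy
      have htop : zpowers y = ⊤ := by
        refine eq_top_of_card_eq _ (Nat.dvd_antisymm (card_subgroup_dvd_card _) ?_)
        obtain ⟨e, he, he'⟩ := (Nat.dvd_prime_pow hp).1 (hG ▸ card_subgroup_dvd_card (zpowers y))
        rw [he', hG]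
        refine pow_dvd_pow p ?_
        by_contra hlt
        have h1 : Nat.card (zpowers y) ≤ Nat.card M := by
          rw [hM, he']; exact Nat.pow_le_pow_right hp.pos (by omega)
        exact hy ((eq_of_le_of_card_ge hle h1).symm ▸ mem_zpowers y)
      show z ∈ zpowers y
      rw [htop]; exact mem_top z
    rcases Nat.eq_zero_or_pos n with rfl | hn
    · exact hnc (isCyclic_of_prime_card (hG.trans (pow_one p)))
    obtain ⟨j, rfl⟩ := hpi hn.ne'
    obtain ⟨r, hr⟩ := mem_zpowers_iff.1 (hMz ▸ hMn.conj_mem x hxM y)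
    have hr1 : (p : ℤ) ∣ r - 1 := by
      have hiter : ∀ m : ℕ, y ^ m * x * (y ^ m)⁻¹ = x ^ (r ^ m) := by
        intro m
        induction m with
        | zero => simp
        | succ m ih' =>
          calc y ^ (m + 1) * x * (y ^ (m + 1))⁻¹ = y * (y ^ m * x * (y ^ m)⁻¹) * y⁻¹ := by
                rw [pow_succ']; group
            _ = (y * x * y⁻¹) ^ (r ^ m) := by rw [ih', conj_zpow]
            _ = x ^ (r ^ (m + 1)) := by rw [← hr, ← zpow_mul, pow_succ']
      have h1 : x ^ (r ^ p - 1) = 1 := by
        rw [zpow_sub_one, ← hiter, ← hi, ((Commute.refl x).zpow_left _).eq,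
          mul_inv_cancel_right, mul_inv_cancel]
      rw [← orderOf_dvd_iff_zpow_eq_one, hxo] at h1
      push_cast at h1
      have h2 : (p : ℤ) ∣ r ^ p - 1 := (dvd_pow_self _ hn.ne').trans h1
      have h3 : ((r : ZMod p)) ^ p = 1 := by
        have := (ZMod.intCast_zmod_eq_zero_iff_dvd _ p).2 h2
        push_cast at this
        exact sub_eq_zero.1 this
      rw [ZMod.pow_card] at h3
      have : (((r - 1 : ℤ)) : ZMod p) = 0 := by push_cast; rw [h3, sub_self]
      exact (ZMod.intCast_zmod_eq_zero_iff_dvd _ p).1 this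
    have hxp : orderOf (x ^ (p ^ (n - 1))) = p := by
      have h := orderOf_pow_orderOf_div (hxo ▸ (pow_pos hp.pos n).ne') (hxo ▸ dvd_pow_self p hn.ne')
      rw [hxo] at h
      rwa [show p ^ n / p = p ^ (n - 1) by
        conv_lhs => rw [show n = n - 1 + 1 by omega, pow_succ, Nat.mul_div_cancel _ hp.pos]] at h
    have hr4 : p = 2 → (4 : ℤ) ∣ r - 1 := by
      rintro rfl
      have hout : ∀ a : G, orderOf a = 2 → a ∈ M := fun a ha => by
        have := hu (x ^ (2 ^ (n - 1))) a hxp ha
        rw [hMz]
        exact (zpowers_le.2 (pow_mem (mem_zpowers x) _)) this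
      rcases Nat.lt_or_ge n 2 with hn2 | hn2
      · -- `x` is central
        obtain rfl : n = 1 := by omega
        exfalso
        rw [pow_one] at hxo
        have hy2 : y ^ 2 = 1 := by
          rw [← hi, zpow_mul, zpow_natCast, ← hxo, pow_orderOf_eq_one, one_zpow]
        exact hy (hout y (orderOf_eq_prime hy2 (fun h => hy (h ▸ one_mem M))))
      have hy4 : ¬ orderOf (y ^ 2) ∣ 2 := by
        intro hd
        have hy' : y ^ 4 = 1 := by
          rw [show 4 = 2 * 2 from rfl, pow_mul]
          exact orderOf_dvd_iff_pow_eq_one.1 hd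
        obtain ⟨e, he, he'⟩ := (Nat.dvd_prime_pow Nat.prime_two).1
          (show orderOf y ∣ 2 ^ 2 from orderOf_dvd_of_pow_eq_one hy')
        interval_cases e
        · exact hy (by rw [orderOf_eq_one_iff.1 (he'.trans (pow_zero 2))]; exact one_mem M)
        · exact hy (hout y (he'.trans (pow_one 2)))
        · -- two cyclic subgroups of order 4
          obtain ⟨F, hF⟩ := Sylow.exists_subgroup_card_pow_prime (G := M) 2
            (n := 2) (hM ▸ pow_dvd_pow 2 hn2)
          have h4 := hu4 rfl (zpowers y) (F.map M.subtype) (by rw [Nat.card_zpowers, he']; norm_num)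
            (by rw [card_map_of_injective M.subtype_injective, hF]; norm_num)
          exact hy (map_subtype_le F (h4 ▸ mem_zpowers y))
      obtain ⟨e, he, he'⟩ := (Nat.dvd_prime_pow Nat.prime_two).1
        (hG ▸ _root_.orderOf_dvd_natCard (y ^ 2))
      have e1 : x ^ (r * (((2 : ℕ) : ℤ) * j)) = x ^ (((2 : ℕ) : ℤ) * j) := by
        rw [zpow_mul, hr, conj_zpow, hi, ← pow_succ', pow_succ, mul_inv_cancel_right]
      have h1 : (y ^ 2) ^ (r - 1) = 1 := by
        rw [← hi, ← zpow_mul, mul_sub, mul_one, zpow_sub, mul_comm _ r, e1, mul_inv_cancel]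
      rw [← orderOf_dvd_iff_zpow_eq_one, he'] at h1
      have : 2 ≤ e := by
        by_contra hlt
        refine hy4 (he' ▸ ?_)
        interval_cases e <;> norm_num
      have h4 : (4 : ℕ) ∣ 2 ^ e := pow_dvd_pow 2 this
      exact (Int.natCast_dvd_natCast.2 h4).trans h1
    obtain ⟨a, ha⟩ := exists_pow_eq_one_of_cyclic_index hp x y hxo r j hr.symm hr1 hr4 hi.symm
    have hnot : x ^ a * y ∉ M := fun h => hy (by
      have := M.mul_mem (M.inv_mem (M.zpow_mem hxM a)) h
      rwa [inv_mul_cancel_left] at this)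
    have ho : orderOf (x ^ a * y) = p := orderOf_eq_prime ha (fun h => hnot (h ▸ one_mem M))
    exact hnot (hMz ▸ zpowers_le.2 (pow_mem (mem_zpowers x) _) (hu _ _ hxp ho))

/-- A `p`-group with a unique subgroup of order `p ^ s`, `1 ≤ s < m`, is cyclic
(`s ≥ 2` if `p = 2`). -/
theorem isCyclic_of_unique_subgroup {G : Type u} [Group G] [Finite G] {p m s : ℕ} (hp : p.Prime)
    (hG : Nat.card G = p ^ m) (hs : 1 ≤ s) (hsm : s < m) (h2 : p ≠ 2 ∨ 2 ≤ s)
    (huniq : ∀ H K : Subgroup G, Nat.card H = p ^ s → Nat.card K = p ^ s → H = K) : IsCyclic G := by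
  have : Fact p.Prime := ⟨hp⟩
  obtain ⟨H, hH⟩ := Sylow.exists_subgroup_card_pow_prime (G := G) p (n := s)
    (hG ▸ pow_dvd_pow p hsm.le)
  -- the subgroups of order at most `p ^ s` lie in `H`
  have hsmall : ∀ (K : Subgroup G) (k : ℕ), Nat.card K = p ^ k → k ≤ s → K ≤ H := by
    intro K k hK hk
    obtain ⟨L, hL, hKL⟩ := Sylow.exists_subgroup_card_pow_prime_le (G := G) p
      (hG ▸ pow_dvd_pow p hsm.le) K hK hk
    exact huniq L H hL hH ▸ hKL
  -- `H` lies in a cyclic subgroup
  obtain ⟨x, hx⟩ : ∃ x, x ∉ H := by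
    by_contra hall
    push Not at hall
    have := (eq_top_iff' H).2 hall
    rw [this, card_top, hG] at hH
    exact hsm.ne' (Nat.pow_right_injective hp.two_le hH)
  obtain ⟨k, hk, hk'⟩ := (Nat.dvd_prime_pow hp).1 (hG ▸ orderOf_dvd_natCard x)
  have hks : s ≤ k := by
    by_contra hlt
    exact hx (hsmall (zpowers x) k (by rw [Nat.card_zpowers, hk']) (by omega) (mem_zpowers x))
  have hHx : H ≤ zpowers x := by
    rw [huniq H (zpowers (x ^ (p ^ k / p ^ s))) hH ?_]
    · exact zpowers_le.2 (pow_mem (mem_zpowers x) _)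
    · rw [Nat.card_zpowers, ← hk',
        orderOf_pow_orderOf_div (hk' ▸ (pow_pos hp.pos k).ne') (hk' ▸ pow_dvd_pow p hks)]
  have hcyc : IsCyclic (zpowers x) := inferInstance
  have huniq' : ∀ (K L : Subgroup G) (j : ℕ), j ≤ s → Nat.card K = p ^ j → Nat.card L = p ^ j →
      K = L := by
    classical
    intro K L j hj hK hL
    have hK' := (hsmall K j hK hj).trans hHx
    have hL' := (hsmall L j hL hj).trans hHx
    have key : ∀ K : Subgroup G, K ≤ zpowers x → Nat.card K = p ^ j →
        K = zpowers (x ^ (p ^ k / p ^ j)) := by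
      intro K hKle hKc
      have hjk : j ≤ k := hj.trans hks
      refine eq_of_le_of_card_ge ?_ ?_
      · intro z hz
        obtain ⟨i, rfl⟩ := mem_zpowers_iff.1 (hKle hz)
        have h1 : (x ^ i) ^ (p ^ j) = 1 := by
          rw [← hKc]; exact congrArg Subtype.val (pow_card_eq_one' (x := (⟨_, hz⟩ : K)))
        rw [← zpow_natCast, ← zpow_mul, ← orderOf_dvd_iff_zpow_eq_one, hk'] at h1
        have h2 : ((p ^ k / p ^ j : ℕ) : ℤ) ∣ i := by
          rw [Nat.pow_div hjk hp.pos]
          rw [show p ^ k = p ^ (k - j) * p ^ j by rw [← pow_add]; congr 1; omega] at h1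
          push_cast at h1 ⊢
          exact Int.dvd_of_mul_dvd_mul_right (pow_ne_zero _ (by exact_mod_cast hp.ne_zero)) h1
        obtain ⟨l, rfl⟩ := h2
        rw [zpow_mul, zpow_natCast]
        exact zpow_mem (mem_zpowers _) l
      · rw [hKc, Nat.card_zpowers, ← hk',
          orderOf_pow_orderOf_div (hk' ▸ (pow_pos hp.pos k).ne') (hk' ▸ pow_dvd_pow p hjk)]
    rw [key K hK' hK, key L hL' hL]
  refine isCyclic_of_unique hp m hG (fun a b ha hb => ?_) (fun hp2 K L hK hL => ?_)
  · rw [huniq' (zpowers a) (zpowers b) 1 hs (by rw [Nat.card_zpowers, ha, pow_one])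
      (by rw [Nat.card_zpowers, hb, pow_one])]
    exact mem_zpowers b
  · subst hp2
    exact huniq' K L 2 (h2.resolve_left (by simp)) (by rw [hK]; norm_num) (by rw [hL]; norm_num)

end CfsgLib.SubgroupCount
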