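import Cfsg.Agent.Lib.SubgroupCount.Basic
import Cfsg.Agent.Lib.OrderCount.Miller
import Cfsg.Agent.Lib.PGroup.Frattini

/-!
Hall's enumeration principle modulo `p ^ 2`: the subgroups of order `p ^ a` of a noncyclic
`p`-group are counted through its subgroups of index `p`.
-/

set_option autoImplicit false

namespace CfsgLib.SubgroupCount

open Subgroup

universe u

variable {G : Type u} [Group G]

/-- Subgroups above a normal subgroup, by index. -/
theorem card_over_normal (N : Subgroup G) [N.Normal] (i : ℕ) :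
    Nat.card {M : Subgroup G // M.index = i ∧ N ≤ M} =
      Nat.card {M : Subgroup (G ⧸ N) // M.index = i} :=
  Nat.card_congr
    { toFun := fun M => ⟨M.1.map (QuotientGroup.mk' N), by
        rw [index_map_eq (H := M.1) (QuotientGroup.mk'_surjective N)
          (by rw [QuotientGroup.ker_mk']; exact M.2.2), M.2.1]⟩
      invFun := fun H => ⟨H.1.comap (QuotientGroup.mk' N), by
          rw [index_comap_of_surjective _ (QuotientGroup.mk'_surjective N)]; exact H.2, fun x hx => by
          rw [mem_comap, QuotientGroup.mk'_apply, (QuotientGroup.eq_one_iff x).2 hx]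
          exact one_mem _⟩
      left_inv := fun M => Subtype.ext (comap_map_eq_self (by
        rw [QuotientGroup.ker_mk']; exact M.2.2))
      right_inv := fun H => Subtype.ext (map_comap_eq_self_of_surjective
        (QuotientGroup.mk'_surjective N) _) }

/-- An elementary abelian group of order at least `p ^ 2` has `1 + p` modulo `p ^ 2` subgroups of
index `p`. -/
theorem card_index_prime_modEq {V : Type u} [Group V] [Finite V] {p e : ℕ} [hp : Fact p.Prime]
    (hab : ∀ a b : V, a * b = b * a) (hexp : ∀ x : V, x ^ p = 1) (hcard : Nat.card V = p ^ e)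
    (he : 2 ≤ e) :
    Nat.card {M : Subgroup V // M.index = p} ≡ 1 + p [MOD p ^ 2] := by
  classical
  letI : CommGroup V := { (inferInstance : Group V) with mul_comm := hab }
  have : NeZero (Monoid.exponent V) := ⟨Monoid.exponent_ne_zero_of_finite⟩
  obtain ⟨eV⟩ := CommGroup.monoidHom_mulEquiv_of_hasEnoughRootsOfUnity V ℂ
  let Φ := CommGroup.subgroupOrderIsoSubgroupMonoidHom V ℂ
  have h1 : Nat.card {M : Subgroup V // M.index = p} = Nat.card {U : Subgroup V // Nat.card U = p} := by
    refine Nat.card_congr (((Φ.toEquiv.trans OrderDual.ofDual).trans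
      eV.mapSubgroup.toEquiv).subtypeEquiv fun M => ?_)
    show M.index = p ↔ Nat.card ↥((Φ M).ofDual.map eV.toMonoidHom) = p
    rw [card_map_of_injective eV.injective,
      CommGroup.card_subgroupOrderIsoSubgroupMonoidHom ℂ M, ← index_eq_card]
  have h2 : Nat.card {U : Subgroup V // Nat.card U = p} * (p - 1) + 1 = p ^ e := by
    have h3 : Nat.card {g : V // orderOf g = p} + 1 = p ^ e := by
      rw [← hcard, ← Nat.card_congr (Equiv.sumCompl fun g : V => orderOf g = p), Nat.card_sum]
      congr 1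
      refine (Nat.card_eq_one_iff_unique.2 ⟨⟨fun a b => Subtype.ext ?_⟩,
        ⟨⟨1, by rw [orderOf_one]; exact hp.out.ne_one.symm⟩⟩⟩).symm
      have : ∀ g : V, ¬ orderOf g = p → g = 1 := fun g hg =>
        orderOf_eq_one_iff.1 (((Nat.dvd_prime hp.out).1
          (orderOf_dvd_of_pow_eq_one (hexp g))).resolve_right hg)
      rw [this a.1 a.2, this b.1 b.2]
    rw [← h3]
    congr 1
    have h4 := CfsgLib.OrderCount.card_orderOf_zpowers (G := V) p (fun _ => True)
    rw [Nat.totient_prime hp.out] at h4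
    rw [show Nat.card {g : V // orderOf g = p} = Nat.card {g : V // orderOf g = p ∧ True} from
      Nat.card_congr (Equiv.subtypeEquivRight fun g => (and_iff_left trivial).symm), h4]
    congr 1
    exact Nat.card_congr (Equiv.subtypeEquivRight fun U =>
      ⟨fun hU => ⟨isCyclic_of_prime_card hU, hU, trivial⟩, fun hU => hU.2.1⟩)
  rw [h1, ← ZMod.natCast_eq_natCast_iff]
  set c := Nat.card {U : Subgroup V // Nat.card U = p}
  have h5 := congrArg (Nat.cast : ℕ → ZMod (p ^ 2)) h2
  have hp2 : (p : ZMod (p ^ 2)) ^ 2 = 0 := by rw [← Nat.cast_pow, ZMod.natCast_self]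
  obtain ⟨j, rfl⟩ := Nat.exists_eq_add_of_le he
  push_cast [Nat.cast_sub hp.out.one_le] at h5 ⊢
  rw [pow_add, hp2, zero_mul] at h5
  linear_combination (-(p : ZMod (p ^ 2)) - 1) * h5 + (c : ZMod (p ^ 2)) * hp2

/-- A subgroup of index `p` of a `p`-group contains the Frattini subgroup. -/
theorem frattini_le_of_index [Finite G] {p : ℕ} [hp : Fact p.Prime] (hG : IsPGroup p G)
    {M : Subgroup G} (hM : M.index = p) : frattini G ≤ M := by
  obtain ⟨n, hn⟩ := IsPGroup.iff_card.1 hG
  have hn0 : n ≠ 0 := fun h0 => by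
    have h := M.index_dvd_card
    rw [hM, hn, h0, pow_zero] at h
    exact hp.out.not_dvd_one h
  have : M.Normal := normal_of_index_eq_minFac_card (by
    rw [hM, hn, Nat.pow_minFac hn0, hp.out.minFac_eq])
  refine CfsgLib.PGroup.frattini_le_of (p := p) M ?_ (fun x => hM ▸ M.pow_index_mem x)
  haveI : IsCyclic (G ⧸ M) := isCyclic_of_prime_card (by rw [← index_eq_card, hM])
  exact (Normal.quotient_commutative_iff_commutator_le (N := M)).1 IsCyclic.isMulCommutative

/-- A noncyclic `p`-group has Frattini index at least `p ^ 2`. -/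
theorem two_le_of_frattini_index [Finite G] {p d : ℕ} [hp : Fact p.Prime]
    (hnc : ¬ IsCyclic G) (hd : (frattini G).index = p ^ d) : 2 ≤ d := by
  by_contra hlt
  have h1 : Nat.card (G ⧸ frattini G) = p ^ d := by rw [← index_eq_card, hd]
  have : IsCyclic (G ⧸ frattini G) := by
    obtain rfl | rfl : d = 0 ∨ d = 1 := by omega
    · have := (Nat.card_eq_one_iff_unique.1 (by simpa using h1)).1
      exact isCyclic_of_subsingleton
    · exact isCyclic_of_prime_card (h1.trans (pow_one p))
  obtain ⟨x, hx⟩ := this.exists_generator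
  obtain ⟨g, rfl⟩ := QuotientGroup.mk_surjective x
  refine hnc ⟨⟨g, fun y => ?_⟩⟩
  have htop : zpowers g ⊔ frattini G = ⊤ := by
    rw [eq_top_iff]
    intro y _
    obtain ⟨i, hi⟩ := mem_zpowers_iff.1 (hx (y : G ⧸ frattini G))
    rw [← QuotientGroup.mk_zpow, QuotientGroup.eq] at hi
    have := mul_mem (mem_sup_left (T := frattini G) (zpow_mem (mem_zpowers g) i))
      (mem_sup_right (S := zpowers g) hi)
    rwa [mul_inv_cancel_left] at this
  have := frattini_nongenerating htop
  show y ∈ zpowers g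
  rw [this]
  exact mem_top y

theorem exists_frattini_index [Finite G] {p n : ℕ} [hp : Fact p.Prime] (hG : Nat.card G = p ^ n) :
    ∃ d, (frattini G).index = p ^ d := by
  obtain ⟨d, -, hd⟩ := (Nat.dvd_prime_pow hp.out).1 (hG ▸ (frattini G).index_dvd_card)
  exact ⟨d, hd⟩

/-- Counting the subgroups of index `p` and `p ^ 2` above a normal subgroup containing the
Frattini subgroup. -/
theorem card_over [Finite G] {p e : ℕ} [hp : Fact p.Prime] (hG : IsPGroup p G) (N : Subgroup G)
    [N.Normal] (hN : frattini G ≤ N) (he : N.index = p ^ e) (he0 : 1 ≤ e) :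
    (Nat.card {M : Subgroup G // M.index = p ∧ N ≤ M} : ZMod (p ^ 2)) =
      1 + (p : ZMod (p ^ 2)) * Nat.card {D : Subgroup G // D.index = p ^ 2 ∧ N ≤ D} ∧
    (2 ≤ e → Nat.card {D : Subgroup G // D.index = p ^ 2 ∧ N ≤ D} ≡ 1 [MOD p]) := by
  have hcard : Nat.card (G ⧸ N) = p ^ e := by rw [← index_eq_card, he]
  have hab : ∀ a b : G ⧸ N, a * b = b * a := fun a b =>
    ((Normal.quotient_commutative_iff_commutator_le (N := N)).2
      ((CfsgLib.PGroup.commutator_le_frattini hG).trans hN)).is_comm.comm a b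
  have hexp : ∀ x : G ⧸ N, x ^ p = 1 := fun x => by
    obtain ⟨g, rfl⟩ := QuotientGroup.mk_surjective x
    rw [← QuotientGroup.mk_pow, QuotientGroup.eq_one_iff]
    exact hN (CfsgLib.PGroup.pow_mem_frattini hG g)
  have hidx : ∀ i ≤ e, ∀ D : Subgroup (G ⧸ N), D.index = p ^ i ↔ Nat.card D = p ^ (e - i) := by
    intro i hi D
    have h := D.card_mul_index
    rw [hcard, show p ^ e = p ^ (e - i) * p ^ i by rw [← pow_add]; congr 1; omega] at h
    constructor <;> intro h'
    · rw [h'] at h; exact Nat.eq_of_mul_eq_mul_right (pow_pos hp.out.pos i) h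
    · rw [h'] at h; exact Nat.eq_of_mul_eq_mul_left (pow_pos hp.out.pos _) h
  rw [card_over_normal, card_over_normal]
  rcases Nat.lt_or_ge e 2 with h2 | h2
  · obtain rfl : e = 1 := by omega
    refine ⟨?_, fun h => absurd h (by omega)⟩
    have hz : Nat.card {D : Subgroup (G ⧸ N) // D.index = p ^ 2} = 0 := by
      have : IsEmpty {D : Subgroup (G ⧸ N) // D.index = p ^ 2} := ⟨fun D => by
        have h := D.1.index_dvd_card
        rw [hcard, D.2, Nat.pow_dvd_pow_iff_le_right hp.out.one_lt] at h
        omega⟩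
      exact Nat.card_of_isEmpty
    have ho : Nat.card {D : Subgroup (G ⧸ N) // D.index = p} = 1 := by
      refine Nat.card_eq_one_iff_unique.2 ⟨⟨fun A B => Subtype.ext ?_⟩,
        ⟨⟨⊥, by rw [index_bot, hcard, pow_one]⟩⟩⟩
      have : ∀ A : Subgroup (G ⧸ N), A.index = p → A = ⊥ := fun A hA =>
        card_eq_one.1 (((hidx 1 le_rfl A).1 (by rw [hA, pow_one])).trans (by simp))
      rw [this A.1 A.2, this B.1 B.2]
    rw [hz, ho]
    simp
  · have hk2 : Nat.card {D : Subgroup (G ⧸ N) // D.index = p ^ 2} ≡ 1 [MOD p] := by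
      rw [Nat.card_congr (Equiv.subtypeEquivRight fun D => hidx 2 h2 D)]
      exact card_subgroups_modEq_one hp.out (hcard ▸ pow_dvd_pow p (Nat.sub_le e 2))
    refine ⟨?_, fun _ => hk2⟩
    have hk1 := card_index_prime_modEq hab hexp hcard h2
    rw [← ZMod.natCast_eq_natCast_iff] at hk1
    rw [hk1]
    push_cast
    obtain ⟨t, ht⟩ : ∃ t : ℤ, (Nat.card {D : Subgroup (G ⧸ N) // D.index = p ^ 2} : ℤ) - 1 = p * t :=
      (Nat.modEq_iff_dvd.1 hk2.symm)
    have ht' := congrArg (Int.cast : ℤ → ZMod (p ^ 2)) ht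
    push_cast at ht'
    have hp2 : (p : ZMod (p ^ 2)) ^ 2 = 0 := by rw [← Nat.cast_pow, ZMod.natCast_self]
    linear_combination (-(p : ZMod (p ^ 2))) * ht' - (t : ZMod (p ^ 2)) * hp2

theorem card_map_le [Finite G] (M : Subgroup G) (m : ℕ) :
    Nat.card {K : Subgroup M // Nat.card K = m} =
      Nat.card {H : Subgroup G // Nat.card H = m ∧ H ≤ M} :=
  Nat.card_congr
    { toFun := fun K => ⟨K.1.map M.subtype, by
        rw [card_map_of_injective M.subtype_injective]; exact K.2, map_subtype_le K.1⟩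
      invFun := fun H => ⟨H.1.subgroupOf M, by
        rw [Nat.card_congr (subgroupOfEquivOfLe H.2.2).toEquiv]; exact H.2.1⟩
      left_inv := fun K => Subtype.ext (comap_map_eq_self_of_injective M.subtype_injective K.1)
      right_inv := fun H => Subtype.ext (map_subgroupOf_eq_of_le H.2.2) }

/-- The enumeration principle modulo `p ^ 2`. -/
theorem enumeration [Finite G] {p n a : ℕ} [hp : Fact p.Prime] (hG : Nat.card G = p ^ n)
    (hnc : ¬ IsCyclic G) (ha : a + 1 ≤ n) (good : Subgroup G → Prop)
    (hgood : a + 2 ≤ n → ∀ M : Subgroup G, M.index = p →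
      (good M → Nat.card {K : Subgroup M // Nat.card K = p ^ a} ≡ 1 + p [MOD p ^ 2]) ∧
      (¬ good M → Nat.card {K : Subgroup M // Nat.card K = p ^ a} ≡ 1 [MOD p ^ 2])) :
    Nat.card {H : Subgroup G // Nat.card H = p ^ a} ≡
      1 + p * (if a + 2 ≤ n then Nat.card {M : Subgroup G // M.index = p ∧ good M} else 1)
      [MOD p ^ 2] := by
  classical
  have hpg : IsPGroup p G := IsPGroup.of_card hG
  have : Fintype (Subgroup G) := Fintype.ofFinite _
  obtain ⟨d, hd⟩ := exists_frattini_index hG
  have hd2 := two_le_of_frattini_index hnc hd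
  have hΦn : (frattini G).Normal := inferInstance
  obtain ⟨htot1, htot2⟩ := card_over hpg (frattini G) le_rfl hd (by omega)
  have hMs : (Nat.card {M : Subgroup G // M.index = p} : ZMod (p ^ 2)) = 1 + p := by
    rw [Nat.card_congr (Equiv.subtypeEquivRight
      (fun M => (⟨fun h => ⟨h, frattini_le_of_index hpg h⟩, fun h => h.1⟩ :
        M.index = p ↔ M.index = p ∧ frattini G ≤ M))), htot1]
    obtain ⟨t, ht⟩ := (Nat.modEq_iff_dvd.1 (htot2 hd2).symm)
    have ht' := congrArg (Int.cast : ℤ → ZMod (p ^ 2)) ht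
    push_cast at ht'
    have hp2 : (p : ZMod (p ^ 2)) ^ 2 = 0 := by rw [← Nat.cast_pow, ZMod.natCast_self]
    linear_combination (p : ZMod (p ^ 2)) * ht' + (t : ZMod (p ^ 2)) * hp2
  rw [← ZMod.natCast_eq_natCast_iff]
  split_ifs with ha2
  swap
  · -- the subgroups of index `p`
    have hna : n = a + 1 := by omega
    rw [Nat.card_congr (Equiv.subtypeEquivRight fun H : Subgroup G => (?_ :
      Nat.card H = p ^ a ↔ H.index = p))]
    · rw [hMs]; push_cast; ring
    have h := H.card_mul_index
    rw [hG, hna, pow_succ] at h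
    constructor <;> intro h'
    · rw [h'] at h; exact Nat.eq_of_mul_eq_mul_left (pow_pos hp.out.pos _) h
    · rw [h'] at h; exact Nat.eq_of_mul_eq_mul_right hp.out.pos h
  specialize hgood ha2
  set S := Finset.univ.filter fun H : Subgroup G => Nat.card H = p ^ a with hS
  set Ms := Finset.univ.filter fun M : Subgroup G => M.index = p with hMsdef
  set Ds := Finset.univ.filter fun D : Subgroup G => D.index = p ^ 2 ∧ frattini G ≤ D with hDs
  have hper : ∀ H ∈ S, ((Ms.filter fun M => H ≤ M).card : ZMod (p ^ 2)) =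
      1 + (p : ZMod (p ^ 2)) * (Ds.filter fun D => H ≤ D).card := by
    intro H hH
    set N := H ⊔ frattini G
    have : N.Normal := Normal.of_commutator_le
      (h := (CfsgLib.PGroup.commutator_le_frattini hpg).trans le_sup_right)
    obtain ⟨e, -, he⟩ := (Nat.dvd_prime_pow hp.out).1 (hG ▸ N.index_dvd_card)
    have he0 : 1 ≤ e := by
      by_contra he0
      rw [show e = 0 by omega, pow_zero, index_eq_one] at he
      have := frattini_nongenerating he
      rw [hS, Finset.mem_filter, this, card_top, hG] at hH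
      have := Nat.pow_right_injective hp.out.two_le hH.2
      omega
    have h1 := (card_over hpg N le_sup_right he he0).1
    rw [show (Ms.filter fun M => H ≤ M).card = Nat.card {M : Subgroup G // M.index = p ∧ N ≤ M} by
      rw [Nat.card_eq_fintype_card, Fintype.card_subtype, hMsdef, Finset.filter_filter]
      refine congrArg Finset.card (Finset.filter_congr fun M _ => ?_)
      exact ⟨fun h => ⟨h.1, sup_le h.2 (frattini_le_of_index hpg h.1)⟩,
        fun h => ⟨h.1, le_sup_left.trans h.2⟩⟩,
      show (Ds.filter fun D => H ≤ D).card = Nat.card {M : Subgroup G // M.index = p ^ 2 ∧ N ≤ M} by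
      rw [Nat.card_eq_fintype_card, Fintype.card_subtype, hDs, Finset.filter_filter]
      refine congrArg Finset.card (Finset.filter_congr fun M _ => ?_)
      exact ⟨fun h => ⟨h.1.1, sup_le h.2 h.1.2⟩,
        fun h => ⟨⟨h.1, le_sup_right.trans h.2⟩, le_sup_left.trans h.2⟩⟩]
    exact h1
  have hswap : ∀ T : Finset (Subgroup G), ∑ H ∈ S, (T.filter fun M => H ≤ M).card =
      ∑ M ∈ T, Nat.card {K : Subgroup M // Nat.card K = p ^ a} := by
    intro T
    simp only [Finset.card_filter]
    rw [Finset.sum_comm]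
    refine Finset.sum_congr rfl fun M _ => ?_
    rw [card_map_le, Nat.card_eq_fintype_card, Fintype.card_subtype, hS, ← Finset.card_filter,
      Finset.filter_filter]
  have hsum : ((∑ H ∈ S, (Ms.filter fun M => H ≤ M).card : ℕ) : ZMod (p ^ 2)) =
      S.card + (p : ZMod (p ^ 2)) * ((∑ H ∈ S, (Ds.filter fun D => H ≤ D).card : ℕ) : ZMod (p ^ 2)) := by
    push_cast
    rw [Finset.sum_congr rfl hper, Finset.sum_add_distrib, Finset.mul_sum]
    simp
  rw [hswap, hswap] at hsum
  have hDsum : ((∑ D ∈ Ds, Nat.card {K : Subgroup D // Nat.card K = p ^ a} : ℕ) : ZMod p) = 1 := by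
    have hcast : ∀ D ∈ Ds, (Nat.card {K : Subgroup D // Nat.card K = p ^ a} : ZMod p) = 1 := by
      intro D hD
      have hDi : D.index = p ^ 2 := (Finset.mem_filter.1 hD).2.1
      have hDc : Nat.card D = p ^ (n - 2) := by
        have h := D.card_mul_index
        rw [hDi, hG, show p ^ n = p ^ (n - 2) * p ^ 2 by rw [← pow_add]; congr 1; omega] at h
        exact Nat.eq_of_mul_eq_mul_right (pow_pos hp.out.pos 2) h
      have := (ZMod.natCast_eq_natCast_iff _ _ _).2 (card_subgroups_modEq_one (G := D) (β := a)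
        hp.out (hDc ▸ pow_dvd_pow p (by omega)))
      simpa using this
    push_cast
    rw [Finset.sum_congr rfl hcast, Finset.sum_const, nsmul_eq_mul, mul_one]
    have := (ZMod.natCast_eq_natCast_iff _ _ _).2 (htot2 hd2)
    rw [Nat.card_eq_fintype_card, Fintype.card_subtype] at this
    simpa [hDs] using this
  obtain ⟨t, ht⟩ : ∃ t : ℤ,
      ((∑ D ∈ Ds, Nat.card {K : Subgroup D // Nat.card K = p ^ a} : ℕ) : ℤ) - 1 = p * t := by
    have h1 : ((((∑ D ∈ Ds, Nat.card {K : Subgroup D // Nat.card K = p ^ a} : ℕ) : ℤ) - 1 : ℤ) :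
        ZMod p) = 0 := by
      rw [Int.cast_sub, Int.cast_one, Int.cast_natCast, hDsum, sub_self]
    exact (ZMod.intCast_zmod_eq_zero_iff_dvd _ p).1 h1
  have hMsum : ((∑ M ∈ Ms, Nat.card {K : Subgroup M // Nat.card K = p ^ a} : ℕ) : ZMod (p ^ 2)) =
      Ms.card + (p : ZMod (p ^ 2)) * (Ms.filter good).card := by
    have hg : ∀ M ∈ Ms, (Nat.card {K : Subgroup M // Nat.card K = p ^ a} : ZMod (p ^ 2)) =
        1 + if good M then (p : ZMod (p ^ 2)) else 0 := by
      intro M hM
      obtain ⟨h1, h2⟩ := hgood M (Finset.mem_filter.1 hM).2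
      split_ifs with hg'
      · simpa using (ZMod.natCast_eq_natCast_iff _ _ _).2 (h1 hg')
      · simpa using (ZMod.natCast_eq_natCast_iff _ _ _).2 (h2 hg')
    push_cast
    rw [Finset.sum_congr rfl hg, Finset.sum_add_distrib, ← Finset.sum_filter, Finset.sum_const,
      Finset.sum_const]
    simp [mul_comm]
  have ht' := congrArg (Int.cast : ℤ → ZMod (p ^ 2)) ht
  simp only [Int.cast_sub, Int.cast_natCast, Int.cast_one, Int.cast_mul] at ht'
  have hp2 : (p : ZMod (p ^ 2)) ^ 2 = 0 := by rw [← Nat.cast_pow, ZMod.natCast_self]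
  have hMsc : (Ms.card : ZMod (p ^ 2)) = 1 + p := by
    rw [← hMs, Nat.card_eq_fintype_card, Fintype.card_subtype]
  rw [hMsum, hMsc] at hsum
  rw [Nat.card_eq_fintype_card (α := {H : Subgroup G // Nat.card H = p ^ a}), Fintype.card_subtype,
    Nat.card_eq_fintype_card (α := {M : Subgroup G // M.index = p ∧ good M}), Fintype.card_subtype,
    ← Finset.filter_filter]
  push_cast
  linear_combination -hsum - (p : ZMod (p ^ 2)) * ht' - (t : ZMod (p ^ 2)) * hp2

end CfsgLib.SubgroupCount
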