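import Cfsg.Agent.Lib.SubgroupCount.Enumeration
import Cfsg.Agent.Lib.PGroup.MaximalClass

/-!
Kulakoff's theorem: a noncyclic `p`-group (not of maximal class for `p = 2`) has `1 + p` modulo
`p ^ 2` subgroups of each order.
-/

set_option autoImplicit false

namespace CfsgLib.SubgroupCount

open Subgroup
open scoped commutatorElement

universe u

variable {G : Type u} [Group G]

theorem card_subgroups_cyclic [Finite G] [IsCyclic G] {d : ℕ} (hd : d ∣ Nat.card G) :
    Nat.card {H : Subgroup G // Nat.card H = d} = 1 := by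
  classical
  have : Fintype G := Fintype.ofFinite G
  have h1 := CfsgLib.OrderCount.card_orderOf_zpowers (G := G) d (fun _ => True)
  rw [Nat.card_congr (Equiv.subtypeEquivRight
      (fun g => (and_iff_left trivial : orderOf g = d ∧ True ↔ orderOf g = d))),
    Nat.card_eq_fintype_card, Fintype.card_subtype,
    IsCyclic.card_orderOf_eq_totient (by rwa [← Nat.card_eq_fintype_card])] at h1
  have h2 : 0 < d.totient := Nat.totient_pos.2 (Nat.pos_of_dvd_of_pos hd Nat.card_pos)
  rw [Nat.card_congr (Equiv.subtypeEquivRight fun H : Subgroup G =>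
    (⟨fun h => ⟨inferInstance, h, trivial⟩, fun h => h.2.1⟩ :
      Nat.card H = d ↔ IsCyclic H ∧ Nat.card H = d ∧ True))]
  exact (Nat.mul_eq_right h2.ne').1 h1.symm

theorem card_index_modEq_one [Finite G] {p n : ℕ} [hp : Fact p.Prime] (hG : Nat.card G = p ^ n)
    (hn : 1 ≤ n) : Nat.card {M : Subgroup G // M.index = p} ≡ 1 [MOD p] := by
  rw [Nat.card_congr (Equiv.subtypeEquivRight fun M : Subgroup G =>
    (?_ : M.index = p ↔ Nat.card M = p ^ (n - 1)))]
  · exact card_subgroups_modEq_one hp.out (hG ▸ pow_dvd_pow p (Nat.sub_le n 1))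
  have h := M.card_mul_index
  rw [hG, show p ^ n = p ^ (n - 1) * p by rw [← pow_succ]; congr 1; omega] at h
  constructor <;> intro h'
  · rw [h'] at h; exact Nat.eq_of_mul_eq_mul_right hp.out.pos h
  · rw [h'] at h; exact Nat.eq_of_mul_eq_mul_left (pow_pos hp.out.pos _) h

theorem card_of_index [Finite G] {p n : ℕ} [hp : Fact p.Prime] (hG : Nat.card G = p ^ (n + 1))
    {M : Subgroup G} (hM : M.index = p) : Nat.card M = p ^ n := by
  have h := M.card_mul_index
  rw [hM, hG, pow_succ] at h
  exact Nat.eq_of_mul_eq_mul_right hp.out.pos h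

/-- The cyclic subgroups of index `p` number a multiple of `p`. -/
theorem prime_dvd_card_cyclic_index [Finite G] {p l : ℕ} [hp : Fact p.Prime]
    (hp2 : p = 2 → 4 < (commutator G).index) (hG : Nat.card G = p ^ (l + 3)) (hnc : ¬ IsCyclic G) :
    p ∣ Nat.card {M : Subgroup G // M.index = p ∧ IsCyclic M} := by
  have h1 := CfsgLib.OrderCount.pow_dvd_cnt_max' hp2 hG hnc
  have h2 : CfsgLib.OrderCount.cnt G (p ^ (l + 2)) =
      Nat.card {U : Subgroup G // IsCyclic U ∧ Nat.card U = p ^ (l + 2) ∧ True} *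
        (p ^ (l + 2)).totient := by
    rw [← CfsgLib.OrderCount.card_orderOf_zpowers (p ^ (l + 2)) (fun _ => True)]
    exact Nat.card_congr (Equiv.subtypeEquivRight fun g => by simp)
  rw [h2] at h1
  refine (CfsgLib.OrderCount.prime_dvd_of_mul_totient hp.out h1).trans (dvd_of_eq ?_)
  refine Nat.card_congr (Equiv.subtypeEquivRight fun M => ?_)
  have h := M.card_mul_index
  rw [hG, pow_succ] at h
  constructor
  · rintro ⟨hc, hm, -⟩
    rw [hm] at h
    exact ⟨Nat.eq_of_mul_eq_mul_left (pow_pos hp.out.pos _) h, hc⟩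
  · rintro ⟨hi, hc⟩
    rw [hi] at h
    exact ⟨hc, Nat.eq_of_mul_eq_mul_right hp.out.pos h, trivial⟩

theorem card_split_index [Finite G] (p : ℕ) (Q : Subgroup G → Prop) :
    Nat.card {M : Subgroup G // M.index = p} = Nat.card {M : Subgroup G // M.index = p ∧ Q M} +
      Nat.card {M : Subgroup G // M.index = p ∧ ¬ Q M} := by
  classical
  rw [← Nat.card_sum]
  exact Nat.card_congr ((Equiv.sumCompl fun M : {M : Subgroup G // M.index = p} => Q M.1).symm.trans
    (Equiv.sumCongr (Equiv.subtypeSubtypeEquivSubtypeInter (fun M : Subgroup G => M.index = p) Q)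
      (Equiv.subtypeSubtypeEquivSubtypeInter (fun M : Subgroup G => M.index = p) (fun M => ¬ Q M))))

/-- Kulakoff's theorem for odd `p`. -/
theorem kulakoff_odd {p : ℕ} [hp : Fact p.Prime] (hp2 : p ≠ 2) :
    ∀ (n : ℕ) {G : Type u} [Group G] [Finite G], Nat.card G = p ^ n → ¬ IsCyclic G →
      ∀ a : ℕ, 1 ≤ a → a + 1 ≤ n →
        Nat.card {H : Subgroup G // Nat.card H = p ^ a} ≡ 1 + p [MOD p ^ 2] := by
  intro n
  induction n with
  | zero => intro G _ _ _ _ a _ ha; omega
  | succ n ih =>
    intro G _ _ hG hnc a ha1 ha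
    have hen := enumeration hG hnc ha (fun M => ¬ IsCyclic M) fun ha2 M hM =>
      ⟨fun hMc => ih (card_of_index hG hM) hMc a ha1 (by omega), fun hMc => by
        rw [not_not] at hMc
        rw [card_subgroups_cyclic (card_of_index hG hM ▸ pow_dvd_pow p (by omega))]⟩
    refine hen.trans ?_
    split_ifs with ha2
    · obtain ⟨l, hl⟩ : ∃ l, n + 1 = l + 3 := ⟨n - 2, by omega⟩
      have h1 := prime_dvd_card_cyclic_index (fun h => absurd h hp2) (hl ▸ hG) hnc
      have h2 := card_index_modEq_one hG (by omega)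
      rw [card_split_index p (fun M : Subgroup G => IsCyclic M)] at h2
      have h3 : Nat.card {M : Subgroup G // M.index = p ∧ ¬ IsCyclic M} ≡ 1 [MOD p] := by
        refine Nat.ModEq.trans ?_ h2
        conv_lhs => rw [← Nat.zero_add (Nat.card {M : Subgroup G // M.index = p ∧ ¬ IsCyclic M})]
        exact (Nat.modEq_zero_iff_dvd.2 h1).symm.add_right _
      have h4 := h3.mul_left' p
      rw [mul_one, ← pow_two] at h4
      exact h4.add_left 1
    · rw [mul_one]

/-! ### The prime `2` -/

/-- The abelianization has order four. -/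
def Ab4 (X : Type*) [Group X] : Prop := (commutator X).index = 4

theorem four_dvd_index_commutator [Finite G] {n : ℕ} (hG : Nat.card G = 2 ^ n)
    (hnc : ¬ IsCyclic G) : 4 ∣ (commutator G).index := by
  have : Fact (Nat.Prime 2) := ⟨Nat.prime_two⟩
  obtain ⟨d, hd⟩ := exists_frattini_index hG
  have hd2 := two_le_of_frattini_index hnc hd
  have h := index_dvd_of_le (CfsgLib.PGroup.commutator_le_frattini (IsPGroup.of_card hG))
  rw [hd] at h
  exact (pow_dvd_pow 2 hd2).trans h

theorem four_lt_index_commutator [Finite G] {n : ℕ} (hG : Nat.card G = 2 ^ n)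
    (hnc : ¬ IsCyclic G) (h4 : ¬ Ab4 G) : 4 < (commutator G).index :=
  lt_of_le_of_ne (Nat.le_of_dvd (Nat.pos_of_ne_zero index_ne_zero_of_finite)
    (four_dvd_index_commutator hG hnc)) (Ne.symm h4)

theorem not_isCyclic_of_Ab4 [Finite G] (h : Ab4 G) (h8 : 4 < Nat.card G) : ¬ IsCyclic G := by
  intro hc
  have hb : commutator G = ⊥ := by
    rw [_root_.commutator_def, eq_bot_iff, commutator_le]
    intro x _ y _
    rw [mem_bot, commutatorElement_eq_one_iff_mul_comm]
    exact IsCyclic.isMulCommutative.is_comm.comm x y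
  rw [Ab4, hb, index_bot] at h
  omega

theorem card_commutator_self [Finite G] (M : Subgroup G) :
    Nat.card ↥⁅M, M⁆ = Nat.card (commutator ↥M) := by
  rw [← card_map_of_injective M.subtype_injective, _root_.commutator_def, map_commutator,
    ← MonoidHom.range_eq_map, range_subtype]

/-- The structure of a `2`-group with abelianization of order four. -/
theorem exists_dihedral_like [Finite G] {n : ℕ} (hn : 3 ≤ n) (hG : Nat.card G = 2 ^ n)
    (h4 : Ab4 G) :
    ∃ a t z : G, t ∉ zpowers a ∧ orderOf a = 2 ^ (n - 1) ∧ (zpowers a).index = 2 ∧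
      Commute z a ∧ Commute z t ∧ z ^ 2 = 1 ∧ t * a * t⁻¹ = z * a⁻¹ ∧ (t ^ 2 = 1 ∨ t ^ 2 ≠ 1 ∧ t ^ 4 = 1) ∧
      (n = 3 → z = 1) := by
  have : Fact (Nat.Prime 2) := ⟨Nat.prime_two⟩
  have hc : Group.nilpotencyClass G = n - 1 :=
    CfsgLib.MaxClass.class_of_abelianization n G hn hG (by rw [← index_eq_card]; exact h4)
  obtain ⟨a, t, hgen, hta, ha, -, ht2, hinv⟩ := CfsgLib.MaxClass.exists_generators hn hG hc
  obtain ⟨hZ, -, -⟩ := CfsgLib.MaxClass.center_of_class hG hn hc
  have hZ2 : ∀ w ∈ center G, w ^ 2 = 1 := fun w hw =>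
    orderOf_dvd_iff_pow_eq_one.1 (hZ ▸ orderOf_dvd_natCard _ hw)
  have hidx : (zpowers a).index = 2 := by
    have h := (zpowers a).card_mul_index
    rw [Nat.card_zpowers, ha, hG, show 2 ^ n = 2 ^ (n - 1) * 2 by rw [← pow_succ]; congr 1; omega] at h
    exact Nat.eq_of_mul_eq_mul_left (pow_pos two_pos _) h
  refine ⟨a, t, t * a * t⁻¹ * a, hta, ha, hidx, (mem_center_iff.1 hinv a).symm,
    (mem_center_iff.1 hinv t).symm, hZ2 _ hinv, by group, ?_, ?_⟩
  · rcases eq_or_ne (t ^ 2) 1 with h | h
    · exact Or.inl h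
    · refine Or.inr ⟨h, ?_⟩
      rw [show (4 : ℕ) = 2 * 2 from rfl, pow_mul]
      exact hZ2 _ ht2
  · rintro rfl
    by_contra hz
    -- otherwise `a ^ 2 = t a t⁻¹ a`, so the group is abelian
    refine CfsgLib.MaxClass.not_isMulCommutative_of_class hG le_rfl hc ?_
    have hA : IsMulCommutative (zpowers a) := IsCyclic.isMulCommutative
    have hAn : (zpowers a).Normal := normal_of_index_eq_two hidx
    have ha2 : a ^ 2 ∈ center G := by
      rw [mem_center_iff]
      obtain ⟨i, hi⟩ := mem_zpowers_iff.1 (hAn.conj_mem a (mem_zpowers a) t)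
      have h4 : (a ^ 2) ^ 2 = 1 := by rw [← pow_mul, show 2 * 2 = 2 ^ (3 - 1) by rfl, ← ha,
        pow_orderOf_eq_one]
      intro g
      have hkey : Commute t (a ^ 2) := by
        have h5 : t * a ^ 2 * t⁻¹ = (t * a * t⁻¹ * a) ^ 2 * (a ^ 2)⁻¹ := by
          rw [← conj_pow, (show Commute (t * a * t⁻¹) a from hi ▸ (Commute.refl a).zpow_left i).mul_pow,
            mul_inv_cancel_right]
        rw [hZ2 _ hinv, one_mul, show (a ^ 2)⁻¹ = a ^ 2 from
          inv_eq_of_mul_eq_one_right (by rw [← sq]; exact h4)] at h5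
        exact mul_inv_eq_iff_eq_mul.1 h5
      have : g ∈ centralizer ({a ^ 2} : Set G) := by
        have hle : zpowers a ⊔ zpowers t ≤ centralizer ({a ^ 2} : Set G) :=
          sup_le (zpowers_le.2 (mem_centralizer_singleton_iff.2 ((Commute.refl a).pow_right 2).eq))
            (zpowers_le.2 (mem_centralizer_singleton_iff.2 hkey.eq))
        exact hle (hgen ▸ mem_top g)
      exact mem_centralizer_singleton_iff.1 this
    have ha2ne : a ^ 2 ≠ 1 := fun h => by
      have := Nat.le_of_dvd two_pos (ha ▸ orderOf_dvd_of_pow_eq_one h)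
      norm_num at this
    have hzeq : t * a * t⁻¹ * a = a ^ 2 := by
      have h2 := hZ
      rw [Nat.card_eq_two_iff' (⟨1, one_mem _⟩ : center G)] at h2
      obtain ⟨w, -, huniq⟩ := h2
      have e1 := huniq ⟨_, hinv⟩ (fun h => hz (congrArg Subtype.val h))
      have e2 := huniq ⟨_, ha2⟩ (fun h => ha2ne (congrArg Subtype.val h))
      exact congrArg Subtype.val (e1.trans e2.symm)
    have hcomm : Commute t a := by
      rw [sq] at hzeq
      exact mul_inv_eq_iff_eq_mul.1 (mul_right_cancel hzeq)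
    refine ⟨⟨fun x y => ?_⟩⟩
    have key : ∀ g : G, g ∈ centralizer ({a, t} : Set G) := fun g =>
      (sup_le
        (zpowers_le.2 (mem_centralizer_iff.2 fun w hw => by
          rcases hw with rfl | rfl
          · rfl
          · exact hcomm.eq))
        (zpowers_le.2 (mem_centralizer_iff.2 fun w hw => by
          rcases hw with rfl | rfl
          · exact hcomm.eq.symm
          · rfl)) : zpowers a ⊔ zpowers t ≤ centralizer ({a, t} : Set G)) (hgen ▸ mem_top g)
    have : x ∈ centralizer ({y} : Set G) :=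
      (sup_le
        (zpowers_le.2 (mem_centralizer_singleton_iff.2 (mem_centralizer_iff.1 (key y) a (by simp))))
        (zpowers_le.2 (mem_centralizer_singleton_iff.2 (mem_centralizer_iff.1 (key y) t (by simp)))) :
          zpowers a ⊔ zpowers t ≤ centralizer ({y} : Set G)) (hgen ▸ mem_top x)
    exact mem_centralizer_singleton_iff.1 this

/-- Abelianization of order four: evenly many noncyclic subgroups of index two, all of them again
with abelianization of order four from order sixteen on. -/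
theorem Ab4_index_two [Finite G] {n : ℕ} (hn : 3 ≤ n) (hG : Nat.card G = 2 ^ n) (h4 : Ab4 G) :
    Nat.card {M : Subgroup G // M.index = 2 ∧ ¬ IsCyclic M} % 2 = 0 ∧
      (4 ≤ n → ∀ M : Subgroup G, M.index = 2 → ¬ IsCyclic M → Ab4 M) := by
  classical
  have : Fact (Nat.Prime 2) := ⟨Nat.prime_two⟩
  obtain ⟨a, t, z, hta, ha, hidx, hza, hzt, hz2, hconj, ht, hn3⟩ := exists_dihedral_like hn hG h4
  set A := zpowers a with hA
  have hcardM : ∀ M : Subgroup G, M.index = 2 → Nat.card M = 2 ^ (n - 1) := fun M hM =>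
    card_of_index (n := n - 1) (by rw [hG, Nat.sub_add_cancel (by omega : 1 ≤ n)]) hM
  -- the elements outside `A`
  have hout : ∀ y, y ∉ A → ∃ i : ℤ, y = a ^ i * t := by
    intro y hy
    have h1 : y * t⁻¹ ∈ A := by
      rw [Subgroup.mul_mem_iff_of_index_two hidx, inv_mem_iff]
      exact iff_of_false hy hta
    obtain ⟨i, hi⟩ := mem_zpowers_iff.1 h1
    exact ⟨i, by rw [hi, inv_mul_cancel_right]⟩
  have hsq : ∀ i : ℤ, (a ^ i * t) ^ 2 = z ^ i * t ^ 2 := by
    intro i
    have h1 : t * a ^ i * t⁻¹ = z ^ i * (a ^ i)⁻¹ := by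
      rw [← conj_zpow, hconj, (hza.inv_right).mul_zpow, inv_zpow]
    have h2 : Commute (a ^ i) (z ^ i) := (hza.symm.zpow_left i).zpow_right i
    calc (a ^ i * t) ^ 2 = a ^ i * (t * a ^ i * t⁻¹) * t ^ 2 := by simp only [sq]; group
      _ = z ^ i * t ^ 2 := by rw [h1, ← mul_assoc (a ^ i), h2.eq, mul_inv_cancel_right]
  have hex : ∀ M : Subgroup G, M.index = 2 → M ≠ A → ∃ y ∈ M, y ∉ A := by
    intro M hM hne
    by_contra hall
    push Not at hall
    exact hne (eq_of_le_of_card_ge (fun x hx => hall x hx)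
      (by rw [hcardM M hM, hA, Nat.card_zpowers, ha]))
  have hpar : Nat.card {M : Subgroup G // M.index = 2} % 2 = 1 :=
    card_index_modEq_one (p := 2) hG (by omega)
  have hAc : IsCyclic A := inferInstance
  constructor
  · rw [card_split_index 2 (fun M : Subgroup G => IsCyclic M)] at hpar
    rcases Nat.lt_or_ge n 4 with hlt | hge
    · obtain rfl : n = 3 := by omega
      have hz1 := hn3 rfl
      rcases ht with ht | ⟨ht, ht4⟩
      · -- one cyclic subgroup
        suffices h : Nat.card {M : Subgroup G // M.index = 2 ∧ IsCyclic M} = 1 by omega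
        refine Nat.card_eq_one_iff_unique.2 ⟨⟨fun M N => Subtype.ext ?_⟩, ⟨⟨A, hidx, hAc⟩⟩⟩
        have key : ∀ M : Subgroup G, M.index = 2 → IsCyclic M → M = A := by
          intro M hM hMc
          by_contra hne
          obtain ⟨⟨u, hu⟩, hgen⟩ := hMc.exists_generator
          obtain ⟨y, hy, hyA⟩ := hex M hM hne
          have huA : u ∉ A := fun hu' => by
            obtain ⟨j, hj⟩ := mem_zpowers_iff.1 (hgen ⟨y, hy⟩)
            exact hyA ((show u ^ j = y from congrArg Subtype.val hj) ▸ zpow_mem hu' j)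
          obtain ⟨i, hi⟩ := hout u huA
          have h1 : u ^ 2 = 1 := by rw [hi, hsq, hz1, one_zpow, one_mul, ht]
          have h2 := hcardM M hM
          rw [← orderOf_eq_card_of_forall_mem_zpowers hgen, Subgroup.orderOf_mk] at h2
          have := Nat.le_of_dvd two_pos (h2 ▸ orderOf_dvd_of_pow_eq_one h1)
          norm_num at this
        rw [key M.1 M.2.1 M.2.2, key N.1 N.2.1 N.2.2]
      · -- all cyclic
        have : IsEmpty {M : Subgroup G // M.index = 2 ∧ ¬ IsCyclic M} := ⟨fun ⟨M, hM, hMc⟩ => by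
          obtain ⟨y, hy, hyA⟩ := hex M hM (fun h => hMc (h ▸ hAc))
          obtain ⟨i, hi⟩ := hout y hyA
          refine hMc (isCyclic_of_orderOf_eq_card (⟨y, hy⟩ : M) ?_)
          rw [Subgroup.orderOf_mk, hcardM M hM]
          have : y ^ 2 = t ^ 2 := by rw [hi, hsq, hz1, one_zpow, one_mul]
          exact orderOf_eq_prime_pow (p := 2) (n := 1) (by rw [pow_one, this]; exact ht)
            (by rw [show 2 ^ (1 + 1) = 2 * 2 from rfl, pow_mul, this, ← pow_mul]; exact ht4)⟩
        rw [Nat.card_of_isEmpty]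
    · suffices h : Nat.card {M : Subgroup G // M.index = 2 ∧ IsCyclic M} = 1 by omega
      refine Nat.card_eq_one_iff_unique.2 ⟨⟨fun M N => Subtype.ext ?_⟩, ⟨⟨A, hidx, hAc⟩⟩⟩
      have key : ∀ M : Subgroup G, M.index = 2 → IsCyclic M → M = A := by
        intro M hM hMc
        by_contra hne
        obtain ⟨⟨u, hu⟩, hgen⟩ := hMc.exists_generator
        obtain ⟨y, hy, hyA⟩ := hex M hM hne
        have huA : u ∉ A := fun hu' => by
          obtain ⟨j, hj⟩ := mem_zpowers_iff.1 (hgen ⟨y, hy⟩)
          exact hyA ((show u ^ j = y from congrArg Subtype.val hj) ▸ zpow_mem hu' j)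
        obtain ⟨i, hi⟩ := hout u huA
        have ht4 : t ^ 4 = 1 := by
          rcases ht with ht | ⟨-, ht⟩
          · rw [show 4 = 2 * 2 from rfl, pow_mul, ht, one_pow]
          · exact ht
        have h1 : u ^ 4 = 1 := by
          rw [show 4 = 2 * 2 from rfl, pow_mul, hi, hsq,
            ((hzt.zpow_left i).pow_right 2).mul_pow, ← pow_mul, show 2 * 2 = 4 from rfl, ht4,
            mul_one, ← zpow_natCast, ← zpow_mul, mul_comm, zpow_mul, zpow_natCast, hz2, one_zpow]
        have h2 := hcardM M hM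
        rw [← orderOf_eq_card_of_forall_mem_zpowers hgen, Subgroup.orderOf_mk] at h2
        have h3 := h2 ▸ orderOf_dvd_of_pow_eq_one h1
        have h4' : (2 : ℕ) ^ 3 ∣ 4 := (pow_dvd_pow 2 (by omega)).trans h3
        norm_num at h4'
      rw [key M.1 M.2.1 M.2.2, key N.1 N.2.1 N.2.2]
  · intro hn4 M hM hMc
    obtain ⟨y, hy, hyA⟩ := hex M hM (fun h => hMc (h ▸ hAc))
    obtain ⟨i, hi⟩ := hout y hyA
    have ha2 : a ^ 2 ∈ M := hM ▸ (normal_of_index_eq_two hM |> fun h => by
      have := h; exact M.pow_index_mem a)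
    have hmem : (a ^ 4)⁻¹ ∈ ⁅M, M⁆ := by
      have h1 : y * a ^ 2 * y⁻¹ * (a ^ 2)⁻¹ = (a ^ 4)⁻¹ := by
        have h2 : t * a ^ 2 * t⁻¹ = (a ^ 2)⁻¹ := by
          rw [← conj_pow, hconj, (hza.inv_right).mul_pow, hz2, one_mul, inv_pow]
        rw [hi]
        calc a ^ i * t * a ^ 2 * (a ^ i * t)⁻¹ * (a ^ 2)⁻¹
            = a ^ i * (t * a ^ 2 * t⁻¹) * (a ^ i)⁻¹ * (a ^ 2)⁻¹ := by group
          _ = (a ^ 4)⁻¹ := by
              rw [h2, (((Commute.refl a).zpow_left i).pow_right 2).inv_right.eq, mul_inv_cancel_right,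
                ← mul_inv_rev, ← pow_add]
      rw [← h1]
      exact commutator_mem_commutator hy ha2
    have hle : 2 ^ (n - 3) ∣ Nat.card (commutator ↥M) := by
      rw [← card_commutator_self]
      have h1 : orderOf ((a ^ 4)⁻¹) = 2 ^ (n - 3) := by
        rw [orderOf_inv, orderOf_pow' a (by norm_num : (4 : ℕ) ≠ 0), ha,
          show (4 : ℕ) = 2 ^ 2 from rfl, Nat.gcd_eq_right (pow_dvd_pow 2 (by omega : 2 ≤ n - 1)),
          Nat.pow_div (by omega) two_pos]
        congr 1
      exact h1 ▸ Subgroup.orderOf_dvd_natCard _ hmem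
    have h2 := four_dvd_index_commutator (hcardM M hM) hMc
    have h3 := (commutator ↥M).index_mul_card
    rw [hcardM M hM, show n - 1 = 2 + (n - 3) by omega, pow_add] at h3
    obtain ⟨c, hc⟩ := hle
    obtain ⟨d, hd⟩ := h2
    rw [hc, hd, show 4 * d * (2 ^ (n - 3) * c) = 2 ^ 2 * 2 ^ (n - 3) * (d * c) by ring] at h3
    have hdc : d * c = 1 := Nat.eq_of_mul_eq_mul_left (by positivity) (h3.trans (mul_one _).symm)
    rw [Ab4, hd, (Nat.eq_one_of_mul_eq_one_right hdc : d = 1)]

/-- Without abelianization of order four, evenly many subgroups of index two have it. -/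
theorem even_card_Ab4 [Finite G] {n : ℕ} (hn : 4 ≤ n) (hG : Nat.card G = 2 ^ n)
    (hnc : ¬ IsCyclic G) (h4 : ¬ Ab4 G) :
    Nat.card {M : Subgroup G // M.index = 2 ∧ Ab4 M} % 2 = 0 := by
  classical
  have : Fact (Nat.Prime 2) := ⟨Nat.prime_two⟩
  rcases isEmpty_or_nonempty {M : Subgroup G // M.index = 2 ∧ Ab4 M} with hem | ⟨⟨M₀, hM₀, hM₀4⟩⟩
  · rw [Nat.card_of_isEmpty]
  have hcardM : ∀ M : Subgroup G, M.index = 2 → Nat.card M = 2 ^ (n - 1) := fun M hM =>
    card_of_index (n := n - 1) (by rw [hG, Nat.sub_add_cancel (by omega : 1 ≤ n)]) hM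
  have hcomm : ∀ M : Subgroup G, M.index = 2 → (Ab4 M ↔ Nat.card ↥⁅M, M⁆ = 2 ^ (n - 3)) := by
    intro M hM
    have h := (commutator ↥M).index_mul_card
    rw [hcardM M hM, show n - 1 = 2 + (n - 3) by omega, pow_add] at h
    rw [card_commutator_self, Ab4]
    constructor <;> intro h'
    · rw [h'] at h
      exact Nat.eq_of_mul_eq_mul_left (by norm_num) h
    · rw [h'] at h
      exact Nat.eq_of_mul_eq_mul_right (pow_pos two_pos _) h
  set Z := commutator G
  have hle : ∀ M : Subgroup G, ⁅M, M⁆ ≤ Z := fun M => commutator_mono le_top le_top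
  have hZ : ⁅M₀, M₀⁆ = Z := by
    refine eq_of_le_of_card_ge (hle M₀) ?_
    rw [(hcomm M₀ hM₀).1 hM₀4]
    obtain ⟨j, -, hj⟩ := (Nat.dvd_prime_pow Nat.prime_two).1 (hG ▸ card_subgroup_dvd_card Z)
    have h := Z.index_mul_card
    rw [hj, hG] at h
    rw [hj]
    refine Nat.pow_le_pow_right two_pos ?_
    by_contra hlt
    have h1 : 2 ^ (n - 2) ≤ 2 ^ j := Nat.pow_le_pow_right two_pos (by omega)
    have h2 : 5 * 2 ^ (n - 2) ≤ Z.index * 2 ^ j :=
      Nat.mul_le_mul (four_lt_index_commutator hG hnc h4) h1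
    rw [h, show n = 2 + (n - 2) by omega, pow_add, show 2 + (n - 2) - 2 = n - 2 by omega] at h2
    have := pow_pos (two_pos (α := ℕ)) (n - 2)
    omega
  have hZc : Nat.card Z = 2 ^ (n - 3) := hZ ▸ (hcomm M₀ hM₀).1 hM₀4
  -- `Z` is cyclic
  obtain ⟨w, hw⟩ : ∃ w, Z = zpowers w := by
    obtain ⟨C, hC, hCi⟩ := CfsgLib.MaxClass.exists_cyclic_index_two (n - 1) ↥M₀ (by omega)
      (hcardM M₀ hM₀) (CfsgLib.MaxClass.class_of_abelianization (n - 1) ↥M₀ (by omega)
        (hcardM M₀ hM₀) (by rw [← index_eq_card]; exact hM₀4))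
    have : C.Normal := normal_of_index_eq_two hCi
    have hcC : commutator ↥M₀ ≤ C := by
      haveI : IsCyclic (↥M₀ ⧸ C) := isCyclic_of_prime_card (p := 2) (by rw [← index_eq_card, hCi])
      exact (Normal.quotient_commutative_iff_commutator_le (N := C)).1 IsCyclic.isMulCommutative
    have hcy : IsCyclic (commutator ↥M₀) :=
      isCyclic_of_injective (inclusion hcC) (inclusion_injective hcC)
    obtain ⟨⟨g, hg⟩, hgen⟩ := hcy.exists_generator
    refine ⟨(g : G), ?_⟩
    rw [← hZ]
    have e : ⁅M₀, M₀⁆ = (commutator ↥M₀).map M₀.subtype := by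
      rw [_root_.commutator_def, map_commutator, ← MonoidHom.range_eq_map, range_subtype]
    rw [e]
    refine le_antisymm ?_ (zpowers_le.2 ⟨g, hg, rfl⟩)
    rintro _ ⟨x, hx, rfl⟩
    obtain ⟨i, hi⟩ := mem_zpowers_iff.1 (hgen ⟨x, hx⟩)
    exact ⟨i, by simpa using congrArg (fun z => ((z : ↥M₀) : G)) (congrArg Subtype.val hi)⟩
  have hwo : orderOf w = 2 ^ (n - 3) := by rw [← Nat.card_zpowers, ← hw, hZc]
  set K := zpowers (w ^ 2)
  have hKZ : K ≤ Z := hw ▸ zpowers_le.2 (pow_mem (mem_zpowers w) 2)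
  have hKn : K.Normal := ⟨fun x hx g => by
    obtain ⟨i, rfl⟩ := mem_zpowers_iff.1 hx
    obtain ⟨j, hj⟩ := mem_zpowers_iff.1
      (hw ▸ (inferInstance : Z.Normal).conj_mem w (hw ▸ mem_zpowers w) g)
    refine ⟨j * i, ?_⟩
    show (w ^ 2) ^ (j * i) = _
    rw [← conj_zpow, ← conj_pow, ← hj, ← zpow_natCast (w ^ j), ← zpow_mul, ← zpow_mul,
      ← zpow_natCast w, ← zpow_mul]
    congr 1
    ring⟩
  have hwK : w ∉ K := by
    intro h
    obtain ⟨i, hi⟩ := mem_zpowers_iff.1 h
    have h1 : w ^ ((2 : ℤ) * i - 1) = 1 := by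
      rw [zpow_sub_one, zpow_mul]
      norm_cast
      rw [hi, mul_inv_cancel]
    rw [← orderOf_dvd_iff_zpow_eq_one, hwo] at h1
    have h2 : (2 : ℤ) ∣ 2 * i - 1 := by
      refine dvd_trans ?_ h1
      exact_mod_cast dvd_pow_self 2 (by omega : n - 3 ≠ 0)
    omega
  -- `Ab4` means nonabelian modulo `K`
  have hiff : ∀ M : Subgroup G, M.index = 2 → (Ab4 M ↔ ¬ ⁅M, M⁆ ≤ K) := by
    intro M hM
    rw [hcomm M hM]
    constructor
    · intro hc hK
      have : ⁅M, M⁆ = Z := eq_of_le_of_card_ge (hle M) (by rw [hc, hZc])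
      exact hwK (hK (this ▸ hw ▸ mem_zpowers w))
    · intro hK
      obtain ⟨x, hx, hxK⟩ := SetLike.not_le_iff_exists.1 hK
      obtain ⟨i, hi⟩ := mem_zpowers_iff.1 (hw ▸ hle M hx)
      have hodd : ¬ (2 : ℤ) ∣ i := by
        rintro ⟨j, rfl⟩
        refine hxK ⟨j, ?_⟩
        show (w ^ 2) ^ j = x
        rw [← hi, zpow_mul]
        norm_cast
      have hcop : IsCoprime i ((2 : ℤ) ^ (n - 3)) :=
        ((Int.prime_two.coprime_iff_not_dvd.2 hodd).symm).pow_right
      obtain ⟨c, d, hcd⟩ := hcop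
      have hwx : w ∈ ⁅M, M⁆ := by
        have h1 : w ^ ((2 : ℤ) ^ (n - 3)) = 1 := by
          rw [← orderOf_dvd_iff_zpow_eq_one, hwo]; push_cast; exact dvd_rfl
        have : w = x ^ c := by
          rw [← hi, ← zpow_mul]
          conv_lhs => rw [← zpow_one w, ← hcd, zpow_add, mul_comm c i, mul_comm d _,
            zpow_mul _ ((2 : ℤ) ^ (n - 3)), h1, one_zpow, mul_one]
        rw [this]
        exact zpow_mem hx c
      rw [le_antisymm (hle M) (hw ▸ zpowers_le.2 hwx), hZc]
  -- the quotient by `K`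
  set π := QuotientGroup.mk' K
  have hπcomm : ∀ x y : G, Commute (π x) (π y) ↔ ⁅x, y⁆ ∈ K := fun x y => by
    rw [← commutatorElement_eq_one_iff_commute, ← map_commutatorElement, QuotientGroup.mk'_apply,
      QuotientGroup.eq_one_iff]
  set C := (center (G ⧸ K)).comap π
  -- two noncommuting elements of `M₀`
  obtain ⟨u, hu, v, hv, huv⟩ : ∃ u ∈ M₀, ∃ v ∈ M₀, ⁅u, v⁆ ∉ K := by
    have := (hiff M₀ hM₀).1 hM₀4
    rw [commutator_le] at this
    push Not at this
    exact this
  have hMimg : ∀ M : Subgroup G, M.index = 2 → K ≤ M := fun M hM => hKZ.trans (by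
    have : M.Normal := normal_of_index_eq_two hM
    haveI : IsCyclic (G ⧸ M) := isCyclic_of_prime_card (p := 2) (by rw [← index_eq_card, hM])
    exact (Normal.quotient_commutative_iff_commutator_le (N := M)).1 IsCyclic.isMulCommutative)
  have hKc : Nat.card K = 2 ^ (n - 4) := by
    rw [Nat.card_zpowers, orderOf_pow' w two_ne_zero, hwo,
      Nat.gcd_eq_right (dvd_pow_self 2 (by omega : n - 3 ≠ 0)),
      show n - 3 = n - 4 + 1 by omega, pow_succ, Nat.mul_div_cancel _ two_pos]
  have hX : Nat.card (G ⧸ K) = 2 ^ 4 := by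
    have h := card_eq_card_quotient_mul_card_subgroup K
    rw [hG, hKc, show n = 4 + (n - 4) by omega, pow_add, show 4 + (n - 4) - 4 = n - 4 by omega] at h
    exact (Nat.eq_of_mul_eq_mul_right (pow_pos two_pos _) h).symm
  have hM₀c : Nat.card (M₀.map π) = 2 ^ 3 := by
    refine card_of_index (p := 2) (n := 3) hX ?_
    rw [index_map_eq (H := M₀) (QuotientGroup.mk'_surjective K)
      (by rw [QuotientGroup.ker_mk']; exact hMimg M₀ hM₀), hM₀]
  have hne1 : π w ≠ 1 := fun h => hwK ((QuotientGroup.eq_one_iff w).1 h)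
  have himg : ∀ x y : G, ⁅π x, π y⁆ = 1 ∨ ⁅π x, π y⁆ = π w := by
    intro x y
    rw [← map_commutatorElement]
    obtain ⟨i, hi⟩ := mem_zpowers_iff.1
      (hw ▸ commutator_mem_commutator (mem_top x) (mem_top y) : ⁅x, y⁆ ∈ zpowers w)
    have hw2 : (π w) ^ 2 = 1 := by
      rw [← map_pow, QuotientGroup.mk'_apply, QuotientGroup.eq_one_iff]
      exact mem_zpowers _
    rw [← hi, map_zpow, ← Int.mul_ediv_add_emod i 2, zpow_add, zpow_mul]
    norm_cast
    rw [hw2, one_zpow, one_mul]
    rcases Int.emod_two_eq_zero_or_one i with h | h <;> rw [h]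
    · left; rw [zpow_zero]
    · right; rw [zpow_one]
  -- centralizers of index at most two
  have hcent : ∀ x : G, (centralizer ({π x} : Set (G ⧸ K))).index ≤ 2 := by
    intro x
    rw [centralizer_eq_comap_stabilizer]
    refine le_of_eq_of_le (index_comap_of_surjective _ ConjAct.toConjAct.surjective) ?_
    rw [MulAction.index_stabilizer]
    refine le_trans (Set.ncard_le_ncard (?_ : _ ⊆ ({π x, π w * π x} : Set (G ⧸ K))) (Set.toFinite _))
      ((Set.ncard_insert_le _ _).trans (by simp))
    rintro _ ⟨g, rfl⟩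
    obtain ⟨g', hg'⟩ := QuotientGroup.mk'_surjective K (ConjAct.ofConjAct g)
    have e : g • π x = ⁅π g', π x⁆ * π x := by
      rw [ConjAct.smul_def, ← hg', commutatorElement_def,
        show π g' = QuotientGroup.mk' K g' from rfl]
      group
    simp only [Set.mem_insert_iff, Set.mem_singleton_iff]
    rcases himg g' x with h | h <;> rw [e, h]
    · left; rw [one_mul]
    · right; rfl
  -- a central element outside `π M₀`
  obtain ⟨c, hcC, hcM⟩ : ∃ c, c ∈ center (G ⧸ K) ∧ c ∉ M₀.map π := by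
    set D := centralizer ({π u} : Set (G ⧸ K)) ⊓ centralizer ({π v} : Set (G ⧸ K))
    have hD : 4 ≤ Nat.card D := by
      have h := D.card_mul_index
      have h2 : D.index ≤ 2 * 2 := index_inf_le.trans (Nat.mul_le_mul (hcent u) (hcent v))
      rw [hX] at h
      by_contra hlt
      have : Nat.card D * D.index ≤ 3 * 4 := Nat.mul_le_mul (by omega) h2
      omega
    have huv' : ¬ Commute (π u) (π v) := fun h => huv ((hπcomm u v).1 h)
    obtain ⟨c, hc, hcM⟩ : ∃ c ∈ D, c ∉ M₀.map π := by
      by_contra hall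
      push Not at hall
      have hu' : π u ∉ D := fun h => huv' (mem_centralizer_singleton_iff.1 h.2)
      have hsup : D ⊔ zpowers (π u) = M₀.map π := by
        refine eq_of_le_of_card_ge (sup_le (fun x hx => hall x hx) (zpowers_le.2 ⟨u, hu, rfl⟩)) ?_
        obtain ⟨j, -, hj⟩ := (Nat.dvd_prime_pow Nat.prime_two).1
          (hX ▸ card_subgroup_dvd_card (D ⊔ zpowers (π u)))
        have hlt : D < D ⊔ zpowers (π u) := lt_of_le_of_ne le_sup_left
          (fun h => hu' (h ▸ le_sup_right (a := D) (mem_zpowers (π u))))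
        have h1 : Nat.card D < Nat.card ↥(D ⊔ zpowers (π u)) := by
          by_contra hge
          exact hlt.ne (eq_of_le_of_card_ge hlt.le (not_lt.1 hge))
        rw [hM₀c, hj]
        refine Nat.pow_le_pow_right two_pos ?_
        by_contra hj3
        have : 2 ^ j ≤ 2 ^ 2 := Nat.pow_le_pow_right two_pos (by omega)
        omega
      have h1 : D ⊔ zpowers (π u) ≤ centralizer ({π u} : Set (G ⧸ K)) :=
        sup_le inf_le_left (zpowers_le.2 (mem_centralizer_singleton_iff.2 rfl))
      exact huv' (mem_centralizer_singleton_iff.1 (h1 (hsup ▸ ⟨v, hv, rfl⟩))).symm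
    refine ⟨c, ?_, hcM⟩
    have hW : M₀.map π ≤ centralizer ({c} : Set (G ⧸ K)) := by
      have hsub : closure ({π u, π v} : Set (G ⧸ K)) = M₀.map π := by
        refine eq_of_le_of_card_ge ((closure_le _).2 ?_) ?_
        · rintro x (rfl | rfl)
          · exact ⟨u, hu, rfl⟩
          · exact ⟨v, hv, rfl⟩
        · obtain ⟨j, -, hj⟩ := (Nat.dvd_prime_pow Nat.prime_two).1
            (hX ▸ card_subgroup_dvd_card (closure ({π u, π v} : Set (G ⧸ K))))
          rw [hM₀c, hj]
          refine Nat.pow_le_pow_right two_pos ?_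
          by_contra hj3
          apply huv'
          have hab : ∀ x y : closure ({π u, π v} : Set (G ⧸ K)), x * y = y * x := by
            rcases Nat.lt_or_ge j 2 with hj2 | hj2
            · have : IsCyclic (closure ({π u, π v} : Set (G ⧸ K))) := by
                obtain rfl | rfl : j = 0 ∨ j = 1 := by omega
                · have := (Nat.card_eq_one_iff_unique.1 (hj.trans (pow_zero 2))).1
                  exact isCyclic_of_subsingleton
                · exact isCyclic_of_prime_card (p := 2) (by simpa using hj)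
              exact fun x y => IsCyclic.isMulCommutative.is_comm.comm x y
            · exact IsPGroup.commutative_of_card_eq_prime_sq (p := 2) (by rw [hj, show j = 2 by omega])
          exact congrArg Subtype.val (hab ⟨π u, subset_closure (by simp)⟩ ⟨π v, subset_closure (by simp)⟩)
      rw [← hsub, closure_le]
      rintro x (rfl | rfl)
      · exact mem_centralizer_singleton_iff.2 (mem_centralizer_singleton_iff.1 hc.1).symm
      · exact mem_centralizer_singleton_iff.2 (mem_centralizer_singleton_iff.1 hc.2).symm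
    have htop : centralizer ({c} : Set (G ⧸ K)) = ⊤ := by
      refine eq_top_of_card_eq _ ?_
      obtain ⟨j, hj', hj⟩ := (Nat.dvd_prime_pow Nat.prime_two).1
        (hX ▸ card_subgroup_dvd_card (centralizer ({c} : Set (G ⧸ K))))
      rw [hX, hj]
      refine congrArg _ (le_antisymm hj' ?_)
      by_contra hlt
      refine hcM ((eq_of_le_of_card_ge hW ?_).symm ▸ mem_centralizer_singleton_iff.2 rfl)
      rw [hM₀c, hj]
      exact Nat.pow_le_pow_right two_pos (by omega)
    rw [mem_center_iff]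
    intro g
    exact mem_centralizer_singleton_iff.1 (htop ▸ mem_top g)
  have hcen4 : 4 ≤ Nat.card (center (G ⧸ K)) := by
    have hwc : π w ∈ center (G ⧸ K) := by
      have hn' : ((zpowers (π w)) : Subgroup (G ⧸ K)).Normal := by
        have : zpowers (π w) = Z.map π := by rw [hw, MonoidHom.map_zpowers]
        rw [this]
        exact (inferInstance : Z.Normal).map π (QuotientGroup.mk'_surjective K)
      refine CfsgLib.MaxClass.mem_center_of_card (p := 2) (IsPGroup.of_card hX) (zpowers (π w)) ?_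
        (mem_zpowers _)
      rw [Nat.card_zpowers]
      exact orderOf_eq_prime (by
        rw [← map_pow, QuotientGroup.mk'_apply, QuotientGroup.eq_one_iff]; exact mem_zpowers _) hne1
    obtain ⟨j, -, hj⟩ := (Nat.dvd_prime_pow Nat.prime_two).1
      (hX ▸ card_subgroup_dvd_card (center (G ⧸ K)))
    rw [hj]
    refine le_trans (le_of_eq (by norm_num : 4 = 2 ^ 2)) (Nat.pow_le_pow_right two_pos ?_)
    by_contra hlt
    have hcw : c ≠ π w := fun h => hcM (h ▸ ⟨w, (hMimg M₀ hM₀ |> fun _ => by
      have : w ∈ ⁅M₀, M₀⁆ := hZ ▸ hw ▸ mem_zpowers w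
      exact (commutator_le.2 fun a ha b hb => M₀.mul_mem (M₀.mul_mem (M₀.mul_mem ha hb) (M₀.inv_mem ha))
        (M₀.inv_mem hb)) this), rfl⟩)
    have hc1 : c ≠ 1 := fun h => hcM (h ▸ one_mem _)
    have hsub : ({1, π w, c} : Finset (G ⧸ K)) ⊆ (center (G ⧸ K) : Set (G ⧸ K)).toFinite.toFinset := by
      intro x hx
      simp only [Finset.mem_insert, Finset.mem_singleton] at hx
      rw [Set.Finite.mem_toFinset]
      rcases hx with rfl | rfl | rfl
      · exact one_mem _
      · exact hwc
      · exact hcC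
    have h3 := Finset.card_le_card hsub
    rw [Finset.card_insert_of_notMem (by simp [hne1.symm, hc1.symm]),
      Finset.card_pair hcw.symm, ← Set.ncard_eq_toFinset_card _, ← Nat.card_coe_set_eq] at h3
    have : Nat.card (center (G ⧸ K)) ≤ 2 ^ 1 := hj ▸ Nat.pow_le_pow_right two_pos (by omega)
    have h3' : 3 ≤ Nat.card (center (G ⧸ K)) := h3
    omega
  -- abelian modulo `K` means containing `C`
  have habel : ∀ M : Subgroup G, M.index = 2 → (⁅M, M⁆ ≤ K ↔ C ≤ M) := by
    intro M hM
    have hKM := hMimg M hM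
    rw [commutator_le]
    constructor
    · intro hab
      by_contra hCM
      -- `C` and `M` generate everything
      have htop : C ⊔ M = ⊤ := by
        rw [← index_eq_one]
        rcases (Nat.dvd_prime Nat.prime_two).1
          (hM ▸ index_dvd_of_le (le_sup_right : M ≤ C ⊔ M)) with h | h
        · exact h
        · exfalso
          exact hCM ((eq_of_le_of_card_ge (le_sup_right : M ≤ C ⊔ M) (le_of_eq (by
            rw [hcardM M hM, hcardM _ h]))) ▸ le_sup_left)
      have hM' : ∀ m ∈ M, π m ∈ center (G ⧸ K) := by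
        intro m hm
        rw [mem_center_iff]
        intro y
        obtain ⟨y, rfl⟩ := QuotientGroup.mk'_surjective K y
        have : C ⊔ M ≤ (centralizer ({π m} : Set (G ⧸ K))).comap π := sup_le
          (fun x hx => mem_centralizer_singleton_iff.2 ((mem_center_iff.1 hx (π m)).symm))
          (fun x hx => mem_centralizer_singleton_iff.2 ((hπcomm x m).2 (hab x hx m hm)).eq)
        exact mem_centralizer_singleton_iff.1 (this (htop ▸ mem_top y))
      exact huv ((hπcomm u v).1 (mem_center_iff.1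
        ((sup_le (fun x hx => hx) hM' : C ⊔ M ≤ C) (htop ▸ mem_top v)) (π u)))
    · intro hCM x hx y hy
      rw [← hπcomm]
      by_cases hxC : π x ∈ center (G ⧸ K)
      · exact (mem_center_iff.1 hxC (π y)).symm
      -- the centralizer of `π x` contains `π M`
      have hZM : center (G ⧸ K) ≤ M.map π := fun z hz => by
        obtain ⟨g, rfl⟩ := QuotientGroup.mk'_surjective K z
        exact ⟨g, hCM hz, rfl⟩
      have hMc : Nat.card (M.map π) = 2 ^ 3 := by
        refine card_of_index (p := 2) (n := 3) hX ?_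
        rw [index_map_eq (H := M) (QuotientGroup.mk'_surjective K)
          (by rw [QuotientGroup.ker_mk']; exact hKM), hM]
      have hle' : center (G ⧸ K) ⊔ zpowers (π x) ≤ M.map π :=
        sup_le hZM (zpowers_le.2 ⟨x, hx, rfl⟩)
      have heq : center (G ⧸ K) ⊔ zpowers (π x) = M.map π := by
        refine eq_of_le_of_card_ge hle' ?_
        obtain ⟨j, -, hj⟩ := (Nat.dvd_prime_pow Nat.prime_two).1
          (hX ▸ card_subgroup_dvd_card (center (G ⧸ K) ⊔ zpowers (π x)))
        have hlt : center (G ⧸ K) < center (G ⧸ K) ⊔ zpowers (π x) := lt_of_le_of_ne le_sup_left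
          (fun h => hxC (h ▸ le_sup_right (a := center (G ⧸ K)) (mem_zpowers (π x))))
        have h1 : Nat.card (center (G ⧸ K)) < Nat.card ↥(center (G ⧸ K) ⊔ zpowers (π x)) := by
          by_contra hge
          exact hlt.ne (eq_of_le_of_card_ge hlt.le (not_lt.1 hge))
        rw [hMc, hj]
        refine Nat.pow_le_pow_right two_pos ?_
        by_contra hj3
        have : 2 ^ j ≤ 2 ^ 2 := Nat.pow_le_pow_right two_pos (by omega)
        omega
      have h2 : center (G ⧸ K) ⊔ zpowers (π x) ≤ centralizer ({π x} : Set (G ⧸ K)) :=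
        sup_le (fun z hz => mem_centralizer_singleton_iff.2 (mem_center_iff.1 hz (π x)).symm)
          (zpowers_le.2 (mem_centralizer_singleton_iff.2 rfl))
      exact (mem_centralizer_singleton_iff.1 (h2 (heq ▸ ⟨y, hy, rfl⟩))).symm
  -- count
  have hCodd : Nat.card {M : Subgroup G // M.index = 2 ∧ C ≤ M} % 2 = 1 := by
    have : C.Normal := inferInstanceAs ((center (G ⧸ K)).comap π).Normal
    rw [card_over_normal C 2]
    obtain ⟨e, -, he⟩ := (Nat.dvd_prime_pow Nat.prime_two).1
      (show Nat.card (G ⧸ C) ∣ 2 ^ n from hG ▸ card_quotient_dvd_card C)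
    refine card_index_modEq_one (p := 2) he (Nat.pos_of_ne_zero fun he0 => huv ((hπcomm u v).1 ?_))
    rw [he0, pow_zero, ← index_eq_card, index_eq_one] at he
    exact mem_center_iff.1 (show v ∈ C from he ▸ mem_top v) (π u)
  have htot : Nat.card {M : Subgroup G // M.index = 2} % 2 = 1 :=
    card_index_modEq_one (p := 2) hG (by omega)
  rw [card_split_index 2 (fun M : Subgroup G => C ≤ M)] at htot
  rw [Nat.card_congr (Equiv.subtypeEquivRight fun M : Subgroup G => and_congr_right fun hM =>
    (hiff M hM).trans (not_congr (habel M hM)))]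
  omega

/-- Kulakoff's theorem at the prime `2`. -/
theorem kulakoff_two : ∀ (n : ℕ) {G : Type u} [Group G] [Finite G], Nat.card G = 2 ^ n →
    ¬ IsCyclic G → ∀ a : ℕ, 1 ≤ a → a + 1 ≤ n →
      ((¬ Ab4 G ∨ a + 1 = n) → Nat.card {H : Subgroup G // Nat.card H = 2 ^ a} ≡ 1 + 2 [MOD 2 ^ 2]) ∧
      (Ab4 G → a + 2 ≤ n → Nat.card {H : Subgroup G // Nat.card H = 2 ^ a} ≡ 1 [MOD 2 ^ 2]) := by
  intro n
  induction n with
  | zero => intro G _ _ _ _ a _ ha; omega
  | succ n ih =>
    intro G _ _ hG hnc a ha1 ha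
    have : Fact (Nat.Prime 2) := ⟨Nat.prime_two⟩
    have hen := enumeration hG hnc ha
      (fun M => ¬ IsCyclic M ∧ (¬ Ab4 M ∨ a + 2 = n + 1)) fun ha2 M hM =>
      ⟨fun hg => (ih (card_of_index hG hM) hg.1 a ha1 (by omega)).1
          (hg.2.imp_right fun h => by omega),
        fun hg => by
          by_cases hMc : IsCyclic M
          · rw [card_subgroups_cyclic (card_of_index hG hM ▸ pow_dvd_pow 2 (by omega))]
          · have h1 : ¬ (¬ Ab4 M ∨ a + 2 = n + 1) := fun h => hg ⟨hMc, h⟩
            push Not at h1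
            exact (ih (card_of_index hG hM) hMc a ha1 (by omega)).2 h1.1 (by omega)⟩
    rcases Nat.lt_or_ge (n + 1) (a + 2) with ha2 | ha2
    · rw [if_neg (by omega), mul_one] at hen
      exact ⟨fun _ => hen, fun _ h => absurd h (by omega)⟩
    rw [if_pos ha2] at hen
    have key : ∀ k : ℕ, Nat.card {M : Subgroup G // M.index = 2 ∧
        ¬ IsCyclic M ∧ (¬ Ab4 M ∨ a + 2 = n + 1)} % 2 = k →
        Nat.card {H : Subgroup G // Nat.card H = 2 ^ a} ≡ 1 + 2 * k [MOD 2 ^ 2] := by
      intro k hk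
      refine hen.trans (Nat.ModEq.add_left 1 ?_)
      have : Nat.card {M : Subgroup G // M.index = 2 ∧
        ¬ IsCyclic M ∧ (¬ Ab4 M ∨ a + 2 = n + 1)} ≡ k [MOD 2] := by
        rw [← hk]; exact (Nat.mod_modEq _ 2).symm
      have h := this.mul_left' 2
      rwa [← pow_two] at h
    have hpar : Nat.card {M : Subgroup G // M.index = 2} % 2 = 1 :=
      card_index_modEq_one (p := 2) hG (by omega)
    rw [card_split_index 2 (fun M : Subgroup G => IsCyclic M)] at hpar
    by_cases h4 : Ab4 G
    · refine ⟨fun h => absurd (h.resolve_left (not_not.2 h4)) (by omega), fun _ _ => ?_⟩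
      refine key 0 ?_
      obtain ⟨heven, hall⟩ := Ab4_index_two (by omega) hG h4
      rcases eq_or_ne (a + 2) (n + 1) with he | he
      · rwa [Nat.card_congr (Equiv.subtypeEquivRight fun M : Subgroup G =>
          and_congr_right fun _ => and_iff_left (Or.inr he))]
      · have : IsEmpty {M : Subgroup G // M.index = 2 ∧
            ¬ IsCyclic M ∧ (¬ Ab4 M ∨ a + 2 = n + 1)} :=
          ⟨fun ⟨M, hM, hMc, hg⟩ => hg.elim (fun h => h (hall (by omega) M hM hMc)) he⟩
        rw [Nat.card_of_isEmpty]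
    · refine ⟨fun _ => key 1 ?_, fun h => absurd h h4⟩
      obtain ⟨l, hl⟩ : ∃ l, n + 1 = l + 3 := ⟨n - 2, by omega⟩
      have h1 := prime_dvd_card_cyclic_index (fun _ => four_lt_index_commutator hG hnc h4)
        (hl ▸ hG) hnc
      rcases eq_or_ne (a + 2) (n + 1) with he | he
      · rw [Nat.card_congr (Equiv.subtypeEquivRight fun M : Subgroup G =>
          and_congr_right fun _ => and_iff_left (Or.inr he))]
        omega
      · have h2 := even_card_Ab4 (by omega) hG hnc h4
        have h3 : Nat.card {M : Subgroup G // M.index = 2 ∧ ¬ IsCyclic M} =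
            Nat.card {M : Subgroup G // M.index = 2 ∧ Ab4 M} +
            Nat.card {M : Subgroup G // M.index = 2 ∧ ¬ IsCyclic M ∧ (¬ Ab4 M ∨ a + 2 = n + 1)} := by
          rw [← Nat.card_sum]
          classical
          refine Nat.card_congr
            { toFun := fun x => if h : Ab4 x.1 then Sum.inl ⟨x.1, x.2.1, h⟩
                else Sum.inr ⟨x.1, x.2.1, x.2.2, Or.inl h⟩
              invFun := fun x => Sum.elim (fun y => ⟨y.1, y.2.1, not_isCyclic_of_Ab4 y.2.2 (by
                rw [card_of_index hG y.2.1]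
                exact lt_of_lt_of_le (by norm_num) (Nat.pow_le_pow_right two_pos (show 3 ≤ n by omega)))⟩)
                (fun y => ⟨y.1, y.2.1, y.2.2.1⟩) x
              left_inv := fun x => by dsimp only; split_ifs <;> rfl
              right_inv := fun x => by
                rcases x with y | y
                · dsimp only [Sum.elim_inl]; rw [dif_pos y.2.2]
                · dsimp only [Sum.elim_inr]
                  rw [dif_neg (y.2.2.2.resolve_right he)] }
        omega

end CfsgLib.SubgroupCount
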