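import Cfsg.Agent.Lib.SubgroupCount.Basic

/-!
Modulo `p ^ 2`, a finite group has as many subgroups of order `p ^ a` as a Sylow `p`-subgroup,
provided `p ^ (a + 1)` divides its order.
-/

set_option autoImplicit false

namespace CfsgLib.SubgroupCount

open Subgroup

universe u

/-- A sum of an invariant function over an invariant set, from the orbit sizes. -/
theorem dvd_sum_orbits {R α : Type*} [Group R] [MulAction R α] [Finite α] (s : Finset α)
    (f : α → ℕ) (d : ℕ) (hs : ∀ (r : R), ∀ x ∈ s, r • x ∈ s)
    (hf : ∀ (r : R), ∀ x ∈ s, f (r • x) = f x)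
    (h : ∀ x ∈ s, d ∣ (MulAction.orbit R x).ncard * f x) : d ∣ ∑ x ∈ s, f x := by
  classical
  rw [← Finset.sum_fiberwise_of_maps_to (t := s.image (MulAction.orbit R))
    (g := MulAction.orbit R) (fun x hx => Finset.mem_image_of_mem _ hx)]
  refine Finset.dvd_sum fun c hc => ?_
  obtain ⟨x, hx, rfl⟩ := Finset.mem_image.1 hc
  have hconst : ∀ y ∈ s.filter (fun y => MulAction.orbit R y = MulAction.orbit R x), f y = f x := by
    intro y hy
    obtain ⟨r, rfl⟩ := MulAction.orbit_eq_iff.1 (Finset.mem_filter.1 hy).2
    exact hf r x hx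
  rw [Finset.sum_congr rfl hconst, Finset.sum_const, smul_eq_mul]
  have hcard : (s.filter (fun y => MulAction.orbit R y = MulAction.orbit R x) : Set α)
      = MulAction.orbit R x := by
    ext y
    simp only [Finset.coe_filter, MulAction.orbit_eq_iff, Set.mem_ofPred_eq]
    refine ⟨fun hy => hy.2, ?_⟩
    rintro ⟨r, rfl⟩
    exact ⟨hs r x hx, r, rfl⟩
  rw [← Set.ncard_coe_finset, hcard]
  exact h x hx

variable {G : Type u} [Group G]

/-- Conjugation of subgroups by the elements of a subgroup. -/
@[reducible] def conjSubgroups (R : Subgroup G) : MulAction R (Subgroup G) where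
  smul r H := H.map (MulAut.conj (r : G)).toMonoidHom
  one_smul H := by
    show H.map _ = H
    rw [OneMemClass.coe_one, map_one]; exact H.map_id
  mul_smul a b H := by
    show H.map _ = (H.map _).map _
    rw [Subgroup.coe_mul, Subgroup.map_map, map_mul]; rfl

theorem map_conj_le_of_normalizes {T : Subgroup G} {g : G} (hg : g ∈ normalizer (T : Set G))
    {H : Subgroup G} (hH : H ≤ T) : H.map (MulAut.conj g).toMonoidHom ≤ T :=
  (Subgroup.map_mono hH).trans (mem_normalizer_iff_map_conj_eq.1 hg).le

theorem map_conj_le_iff {T : Subgroup G} {g : G} (hg : g ∈ normalizer (T : Set G))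
    {H : Subgroup G} : H.map (MulAut.conj g).toMonoidHom ≤ T ↔ H ≤ T := by
  refine ⟨fun h => ?_, map_conj_le_of_normalizes hg⟩
  have h1 := mem_normalizer_iff_map_conj_eq.1 hg
  rw [← h1] at h
  exact (Subgroup.map_le_map_iff_of_injective (MulAut.conj g).injective).1 h

/-- In a `p`-subgroup `T` normalized by the `p`-subgroup `R`, the `R`-invariant subgroups of order
`p ^ a` number `1` modulo `p`. -/
theorem card_invariant_modEq_one [Finite G] {p a : ℕ} [hp : Fact p.Prime] (R T : Subgroup G)
    (hR : IsPGroup p R) (hRT : R ≤ normalizer (T : Set G)) (ha : p ^ a ∣ Nat.card T) :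
    Nat.card {H : Subgroup G // H ≤ T ∧ Nat.card H = p ^ a ∧ R ≤ normalizer (H : Set G)} ≡ 1
      [MOD p] := by
  let X := {H : Subgroup G // H ≤ T ∧ Nat.card H = p ^ a}
  letI := conjSubgroups R
  letI act : MulAction R X :=
    { smul := fun r H => ⟨r • H.1, map_conj_le_of_normalizes (hRT r.2) H.2.1, by
        show Nat.card (H.1.map _) = _
        rw [card_map_of_injective (MulAut.conj (r : G)).injective]; exact H.2.2⟩
      one_smul := fun H => Subtype.ext (one_smul R H.1)
      mul_smul := fun r t H => Subtype.ext (mul_smul r t H.1) }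
  have h1 := hR.card_modEq_card_fixedPoints X
  have h2 : Nat.card (MulAction.fixedPoints R X) =
      Nat.card {H : Subgroup G // H ≤ T ∧ Nat.card H = p ^ a ∧ R ≤ normalizer (H : Set G)} := by
    refine Nat.card_congr
      { toFun := fun H => ⟨H.1.1, H.1.2.1, H.1.2.2, fun r hr =>
          mem_normalizer_iff_map_conj_eq.2 (congrArg Subtype.val (H.2 ⟨r, hr⟩))⟩
        invFun := fun H => ⟨⟨H.1, H.2.1, H.2.2.1⟩, fun r =>
          Subtype.ext (mem_normalizer_iff_map_conj_eq.1 (H.2.2.2 r.2))⟩
        left_inv := fun _ => rfl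
        right_inv := fun _ => rfl }
  have h3 : Nat.card X = Nat.card {K : Subgroup T // Nat.card K = p ^ a} := by
    refine Nat.card_congr
      { toFun := fun H => ⟨H.1.subgroupOf T, by
          rw [Nat.card_congr (subgroupOfEquivOfLe H.2.1).toEquiv]; exact H.2.2⟩
        invFun := fun K => ⟨K.1.map T.subtype, map_subtype_le K.1, by
          rw [card_map_of_injective T.subtype_injective]; exact K.2⟩
        left_inv := fun H => Subtype.ext (map_subgroupOf_eq_of_le H.2.1)
        right_inv := fun K => Subtype.ext (comap_map_eq_self_of_injective T.subtype_injective K.1) }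
  rw [← h2]
  rw [h3] at h1
  exact h1.symm.trans (card_subgroups_modEq_one hp.out ha)

/-- The subgroups of order `p ^ a` outside a Sylow `p`-subgroup number `0` modulo `p ^ 2`. -/
theorem sq_dvd_card_not_le [Finite G] {p a : ℕ} [hp : Fact p.Prime] (P : Sylow p G)
    (ha : p ^ (a + 1) ∣ Nat.card G) :
    p ^ 2 ∣ Nat.card {H : Subgroup G // Nat.card H = p ^ a ∧ ¬ H ≤ (P : Subgroup G)} := by
  classical
  have : Fintype (Subgroup G) := Fintype.ofFinite _
  obtain ⟨n, hn⟩ := IsPGroup.iff_card.1 P.2
  have han : a + 1 ≤ n := by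
    have h := P.pow_dvd_card_of_pow_dvd_card ha
    rw [hn] at h
    exact (Nat.pow_dvd_pow_iff_le_right hp.out.one_lt).1 h
  set P₀ : Subgroup G := (P : Subgroup G) with hP₀
  letI := conjSubgroups P₀
  -- stabilizers
  have hstab : ∀ H : Subgroup G,
      (MulAction.orbit P₀ H).ncard = ((normalizer (H : Set G)).subgroupOf P₀).index := fun H => by
    rw [← MulAction.index_stabilizer]
    congr 1
    ext r
    exact (mem_normalizer_iff_map_conj_eq (H := H) (g := (r : G))).symm
  have hsize : ∀ (r : P₀) (H : Subgroup G), Nat.card ↥(r • H) = Nat.card H := fun r H =>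
    card_map_of_injective (MulAut.conj (r : G)).injective
  have hle : ∀ (r : P₀) (H : Subgroup G), r • H ≤ P₀ ↔ H ≤ P₀ := fun r H =>
    map_conj_le_iff (le_normalizer r.2)
  have horb : ∀ (r : P₀) (H : Subgroup G),
      (MulAction.orbit P₀ (r • H)).ncard = (MulAction.orbit P₀ H).ncard := fun r H => by
    rw [MulAction.orbit_smul]
  set X := Finset.univ.filter fun H : Subgroup G => Nat.card H = p ^ a ∧ ¬ H ≤ P₀ with hX
  have hXcard : Nat.card {H : Subgroup G // Nat.card H = p ^ a ∧ ¬ H ≤ P₀} = X.card := by
    rw [Nat.card_eq_fintype_card, Fintype.card_subtype]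
  have hXinv : ∀ (r : P₀), ∀ H ∈ X, r • H ∈ X := fun r H hH => by
    simp only [hX, Finset.mem_filter, Finset.mem_univ, true_and] at hH ⊢
    rw [hsize, hle]
    exact hH
  rw [hXcard, ← Finset.card_filter_add_card_filter_not (s := X)
    (fun H => (MulAction.orbit P₀ H).ncard = p)]
  refine dvd_add ?_ ?_
  · -- orbits of length `p`
    set Y := X.filter fun H => (MulAction.orbit P₀ H).ncard = p with hY
    -- the other Sylow subgroup
    let F : Subgroup G → Subgroup G := fun H => (P₀ ⊓ normalizer (H : Set G)) ⊔ H
    have hFeq : ∀ (r : P₀) (H : Subgroup G), F (r • H) = r • F H := fun r H => by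
      have e : P₀.map (MulAut.conj (r : G)).toMonoidHom = P₀ :=
        mem_normalizer_iff_map_conj_eq.1 (le_normalizer r.2)
      show _ = Subgroup.map _ _
      rw [Subgroup.map_sup, Subgroup.map_inf_eq _ _ _ (MulAut.conj (r : G)).injective,
        Subgroup.map_normalizer_eq_of_bijective _ (MulAut.conj (r : G)).bijective, e]
      rfl
    -- properties of `F H`
    have hF : ∀ H ∈ Y, (Nat.card ↥(F H) = p ^ n ∧ IsPGroup p (F H) ∧ F H ≠ P₀ ∧
        Nat.card ↥(P₀ ⊓ F H) = p ^ (n - 1) ∧ H ≤ F H ∧ F H ≤ normalizer (H : Set G) ∧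
        ¬ H ≤ P₀ ⊓ F H) := by
      intro H hH
      simp only [hY, hX, Finset.mem_filter, Finset.mem_univ, true_and] at hH
      obtain ⟨⟨hHc, hHP⟩, horbH⟩ := hH
      set S := P₀ ⊓ normalizer (H : Set G) with hS
      have hScard : Nat.card S = p ^ (n - 1) := by
        have h := ((normalizer (H : Set G)).subgroupOf P₀).card_mul_index
        rw [← hstab, horbH, hn, show p ^ n = p ^ (n - 1) * p by rw [← pow_succ]; congr 1; omega] at h
        have h' := Nat.eq_of_mul_eq_mul_right hp.out.pos h
        rw [← h', hS, inf_comm]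
        exact Nat.card_congr
          { toFun := fun x => ⟨⟨x.1, x.2.2⟩, x.2.1⟩
            invFun := fun x => ⟨x.1.1, x.2, x.1.2⟩
            left_inv := fun _ => rfl
            right_inv := fun _ => rfl }
      have hp' : IsPGroup p (F H) := IsPGroup.to_sup_of_normal_right' (P.2.to_le inf_le_left)
        (IsPGroup.of_card hHc) inf_le_right
      have hne : F H ≠ P₀ := fun h => hHP (h ▸ le_sup_right)
      have hSlt : S < F H := lt_of_le_of_ne le_sup_left fun h => hHP
        ((h ▸ le_sup_right : H ≤ S).trans inf_le_left)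
      obtain ⟨k, hk⟩ := IsPGroup.iff_card.1 hp'
      have hkn : k = n := by
        refine le_antisymm ?_ ?_
        · obtain ⟨P', hP'⟩ := hp'.exists_le_sylow
          have h1 : Nat.card (F H) ≤ Nat.card (P' : Subgroup G) :=
            Nat.card_le_card_of_injective _ (Subgroup.inclusion_injective hP')
          rw [hk, P'.card_eq_multiplicity, ← P.card_eq_multiplicity, ← hP₀, hn] at h1
          exact (Nat.pow_le_pow_iff_right hp.out.one_lt).1 h1
        · by_contra hlt
          refine hSlt.ne (eq_of_le_of_card_ge hSlt.le ?_)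
          rw [hScard, hk]
          exact Nat.pow_le_pow_right hp.out.pos (by omega)
      subst hkn
      refine ⟨hk, hp', hne, ?_, le_sup_right, sup_le inf_le_right le_normalizer, ?_⟩
      · have hle1 : S ≤ P₀ ⊓ F H := le_inf inf_le_left le_sup_left
        obtain ⟨j, hj⟩ := IsPGroup.iff_card.1 (hp'.to_le (inf_le_right : P₀ ⊓ F H ≤ F H))
        have hjn : j < k := by
          by_contra hge
          refine hne ?_
          have h1 : P₀ ⊓ F H = F H := eq_of_le_of_card_ge inf_le_right (by
            rw [hj, hk]; exact Nat.pow_le_pow_right hp.out.pos (not_lt.1 hge))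
          exact eq_of_le_of_card_ge (inf_eq_right.1 h1) (by rw [hn, hk])
        have h2 := Nat.card_le_card_of_injective _ (Subgroup.inclusion_injective hle1)
        rw [hScard, hj, Nat.pow_le_pow_iff_right hp.out.one_lt] at h2
        rw [hj, show j = k - 1 by omega]
      · exact fun h => hHP (h.trans inf_le_left)
    rw [Finset.card_eq_sum_card_fiberwise (f := F) (t := Y.image F)
      (fun H hH => Finset.mem_image_of_mem _ hH)]
    refine dvd_sum_orbits (R := P₀) _ _ _ ?_ ?_ ?_
    · intro r K hK
      obtain ⟨H, hH, rfl⟩ := Finset.mem_image.1 hK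
      refine Finset.mem_image.2 ⟨r • H, ?_, hFeq r H⟩
      simp only [hY, Finset.mem_filter] at hH ⊢
      exact ⟨hXinv r H hH.1, by rw [horb]; exact hH.2⟩
    · intro r K _
      refine (Finset.card_bij' (fun H _ => r • H) (fun H _ => r⁻¹ • H) ?_ ?_ ?_ ?_).symm
      · intro H hH
        simp only [hY, Finset.mem_filter] at hH ⊢
        exact ⟨⟨hXinv r H hH.1.1, by rw [horb]; exact hH.1.2⟩, by rw [hFeq, hH.2]⟩
      · intro H hH
        simp only [hY, Finset.mem_filter] at hH ⊢
        exact ⟨⟨hXinv r⁻¹ H hH.1.1, by rw [horb]; exact hH.1.2⟩, by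
          rw [hFeq, hH.2, inv_smul_smul]⟩
      · exact fun H _ => inv_smul_smul r H
      · exact fun H _ => smul_inv_smul r H
    · intro K hK
      obtain ⟨H, hH, rfl⟩ := Finset.mem_image.1 hK
      obtain ⟨hKc, hKp, hKne, hIc, -, -, -⟩ := hF H hH
      set K := F H
      rw [pow_two]
      refine Nat.mul_dvd_mul ?_ ?_
      · -- `P` does not fix `K`
        rw [hstab]
        obtain ⟨j, -, hj⟩ := (Nat.dvd_prime_pow hp.out).1
          (hn ▸ ((normalizer (K : Set G)).subgroupOf P₀).index_dvd_card)
        rw [hj]
        refine dvd_pow_self p fun hj0 => hKne ?_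
        rw [hj0, pow_zero, index_eq_one, subgroupOf_eq_top] at hj
        have hsup : IsPGroup p ↥(P₀ ⊔ K) := IsPGroup.to_sup_of_normal_right' P.2 hKp hj
        have h1 : P₀ ⊔ K = P₀ := P.is_maximal' hsup le_sup_left
        exact eq_of_le_of_card_ge (h1 ▸ le_sup_right) (by rw [hn, hKc])
      · -- the subgroups over `K`
        set A := {H : Subgroup G // H ≤ K ∧ Nat.card H = p ^ a ∧ K ≤ normalizer (H : Set G)}
        set B := {H : Subgroup G // H ≤ P₀ ⊓ K ∧ Nat.card H = p ^ a ∧ K ≤ normalizer (H : Set G)}
        set C := {H : Subgroup G //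
          H ≤ K ∧ Nat.card H = p ^ a ∧ K ≤ normalizer (H : Set G) ∧ ¬ H ≤ P₀ ⊓ K}
        have hIn : K ≤ normalizer ((P₀ ⊓ K : Subgroup G) : Set G) := by
          have hIK : (P₀ ⊓ K : Subgroup G) ≤ K := inf_le_right
          have hn1 : ((P₀ ⊓ K : Subgroup G).subgroupOf K).Normal := by
            have hidx : ((P₀ ⊓ K : Subgroup G).subgroupOf K).index = p := by
              have h := ((P₀ ⊓ K : Subgroup G).subgroupOf K).card_mul_index
              rw [Nat.card_congr (subgroupOfEquivOfLe hIK).toEquiv, hIc, hKc,
                show p ^ n = p ^ (n - 1) * p by rw [← pow_succ]; congr 1; omega] at h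
              exact Nat.eq_of_mul_eq_mul_left (pow_pos hp.out.pos _) h
            exact normal_of_index_eq_minFac_card (by
              rw [hidx, hKc, Nat.pow_minFac (by omega), hp.out.minFac_eq])
          exact (normal_subgroupOf_iff_le_normalizer hIK).1 hn1
        have hA : Nat.card A ≡ 1 [MOD p] := card_invariant_modEq_one K K hKp le_normalizer
          (hKc ▸ pow_dvd_pow p (by omega))
        have hB : Nat.card B ≡ 1 [MOD p] := card_invariant_modEq_one K (P₀ ⊓ K) hKp hIn
          (hIc ▸ pow_dvd_pow p (by omega))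
        have hAB : Nat.card A = Nat.card B + Nat.card C := by
          rw [← Nat.card_sum]
          exact Nat.card_congr
            { toFun := fun x => if h : x.1 ≤ P₀ ⊓ K then Sum.inl ⟨x.1, h, x.2.2.1, x.2.2.2⟩
                else Sum.inr ⟨x.1, x.2.1, x.2.2.1, x.2.2.2, h⟩
              invFun := fun x => Sum.elim (fun y => ⟨y.1, y.2.1.trans inf_le_right, y.2.2.1, y.2.2.2⟩)
                (fun y => ⟨y.1, y.2.1, y.2.2.1, y.2.2.2.1⟩) x
              left_inv := fun x => by dsimp only; split_ifs <;> rfl
              right_inv := fun x => by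
                rcases x with y | y
                · dsimp only [Sum.elim_inl]; rw [dif_pos y.2.1]
                · dsimp only [Sum.elim_inr]; rw [dif_neg y.2.2.2.2] }
        have hfib : (Y.filter fun H' => F H' = K).card = Nat.card C := by
          rw [Nat.card_eq_fintype_card, Fintype.card_subtype]
          refine congrArg Finset.card (Finset.ext fun H' => ?_)
          simp only [Finset.mem_filter, Finset.mem_univ, true_and]
          constructor
          · rintro ⟨hH', hFK⟩
            obtain ⟨-, -, -, -, h1, h2, h3⟩ := hF H' hH'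
            rw [hFK] at h1 h2 h3
            simp only [hY, hX, Finset.mem_filter, Finset.mem_univ, true_and] at hH'
            exact ⟨h1, hH'.1.1, h2, h3⟩
          · rintro ⟨h1, h2, h3, h4⟩
            have hnP : ¬ H' ≤ P₀ := fun h => h4 (le_inf h h1)
            have hIle : P₀ ⊓ K ≤ P₀ ⊓ normalizer (H' : Set G) := inf_le_inf_left _ h3
            have hnot : ¬ P₀ ≤ normalizer (H' : Set G) := fun h => hnP (by
              have hsup : IsPGroup p ↥(P₀ ⊔ H') :=
                IsPGroup.to_sup_of_normal_right' P.2 (IsPGroup.of_card h2) h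
              exact le_sup_right.trans (P.is_maximal' hsup le_sup_left).le)
            have hIeq : P₀ ⊓ normalizer (H' : Set G) = P₀ ⊓ K := by
              obtain ⟨j, hj⟩ := IsPGroup.iff_card.1
                (P.2.to_le (inf_le_left : P₀ ⊓ normalizer (H' : Set G) ≤ P₀))
              refine (eq_of_le_of_card_ge hIle ?_).symm
              rw [hj, hIc]
              refine Nat.pow_le_pow_right hp.out.pos ?_
              have : j < n := by
                by_contra hge
                refine hnot (inf_eq_left.1 (eq_of_le_of_card_ge inf_le_left ?_))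
                rw [hn, hj]
                exact Nat.pow_le_pow_right hp.out.pos (not_lt.1 hge)
              omega
            have hFK : F H' = K := by
              refine eq_of_le_of_card_ge (sup_le (hIeq ▸ inf_le_right) h1) ?_
              have hlt : P₀ ⊓ K < F H' := lt_of_le_of_ne (hIeq ▸ le_sup_left)
                (fun h => h4 (h ▸ le_sup_right))
              obtain ⟨j, hj⟩ := IsPGroup.iff_card.1 (hKp.to_le
                (sup_le (hIeq ▸ inf_le_right) h1 : F H' ≤ K))
              rw [hKc, hj]
              refine Nat.pow_le_pow_right hp.out.pos ?_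
              by_contra hj'
              refine hlt.ne (eq_of_le_of_card_ge hlt.le ?_)
              rw [hj, hIc]
              exact Nat.pow_le_pow_right hp.out.pos (by omega)
            refine ⟨?_, hFK⟩
            simp only [hY, hX, Finset.mem_filter, Finset.mem_univ, true_and]
            refine ⟨⟨h2, hnP⟩, ?_⟩
            rw [hstab]
            have h5 := ((normalizer (H' : Set G)).subgroupOf P₀).card_mul_index
            rw [show Nat.card ↥((normalizer (H' : Set G)).subgroupOf P₀) = p ^ (n - 1) by
              rw [← hIc, ← hIeq]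
              exact Nat.card_congr
                { toFun := fun x => ⟨x.1.1, x.1.2, x.2⟩
                  invFun := fun x => ⟨⟨x.1, x.2.1⟩, x.2.2⟩
                  left_inv := fun _ => rfl
                  right_inv := fun _ => rfl }, hn,
              show p ^ n = p ^ (n - 1) * p by rw [← pow_succ]; congr 1; omega] at h5
            exact Nat.eq_of_mul_eq_mul_left (pow_pos hp.out.pos _) h5
        rw [hfib]
        rw [hAB] at hA
        exact Nat.modEq_zero_iff_dvd.1
          (Nat.ModEq.add_left_cancel hB (hA.trans (show (1 : ℕ) ≡ 1 + 0 [MOD p] from rfl)))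
  · -- longer orbits
    rw [Finset.card_eq_sum_ones]
    refine dvd_sum_orbits (R := P₀) _ _ _ ?_ (fun _ _ _ => rfl) ?_
    · intro r H hH
      simp only [Finset.mem_filter] at hH ⊢
      exact ⟨hXinv r H hH.1, by rw [horb]; exact hH.2⟩
    · intro H hH
      simp only [hX, Finset.mem_filter, Finset.mem_univ, true_and] at hH
      obtain ⟨⟨hHc, hHP⟩, hne⟩ := hH
      rw [hstab] at hne
      obtain ⟨j, -, hj⟩ := (Nat.dvd_prime_pow hp.out).1
        (hn ▸ ((normalizer (H : Set G)).subgroupOf P₀).index_dvd_card)
      rw [mul_one, hstab, hj]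
      refine pow_dvd_pow p ?_
      rw [hj] at hne
      by_contra hlt
      obtain hj0 | hj1 : j = 0 ∨ j = 1 := by omega
      · rw [hj0, pow_zero, index_eq_one, subgroupOf_eq_top] at hj
        have hsup : IsPGroup p ↥(P₀ ⊔ H) :=
          IsPGroup.to_sup_of_normal_right' P.2 (IsPGroup.of_card hHc) hj
        exact hHP (le_sup_right.trans (P.is_maximal' hsup le_sup_left).le)
      · exact hne (by rw [hj1, pow_one])

/-- Modulo `p ^ 2`, only the subgroups inside a Sylow subgroup count. -/
theorem card_subgroups_modEq_sylow [Finite G] {p a : ℕ} [hp : Fact p.Prime] (P : Sylow p G)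
    (ha : p ^ (a + 1) ∣ Nat.card G) :
    Nat.card {H : Subgroup G // Nat.card H = p ^ a} ≡
      Nat.card {K : Subgroup ↥(P : Subgroup G) // Nat.card K = p ^ a} [MOD p ^ 2] := by
  classical
  set P₀ : Subgroup G := (P : Subgroup G)
  have h1 : Nat.card {H : Subgroup G // Nat.card H = p ^ a} =
      Nat.card {K : Subgroup P₀ // Nat.card K = p ^ a} +
      Nat.card {H : Subgroup G // Nat.card H = p ^ a ∧ ¬ H ≤ P₀} := by
    rw [← Nat.card_sum]
    exact Nat.card_congr
      { toFun := fun x => if h : x.1 ≤ P₀ then Sum.inl ⟨x.1.subgroupOf P₀, by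
            rw [Nat.card_congr (subgroupOfEquivOfLe h).toEquiv]; exact x.2⟩
          else Sum.inr ⟨x.1, x.2, h⟩
        invFun := fun x => Sum.elim (fun y => ⟨y.1.map P₀.subtype, by
            rw [card_map_of_injective P₀.subtype_injective]; exact y.2⟩)
          (fun y => ⟨y.1, y.2.1⟩) x
        left_inv := fun x => by
          dsimp only
          split_ifs with h
          · exact Subtype.ext (map_subgroupOf_eq_of_le h)
          · rfl
        right_inv := fun x => by
          rcases x with y | y
          · dsimp only [Sum.elim_inl]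
            rw [dif_pos (map_subtype_le y.1)]
            exact congrArg Sum.inl
              (Subtype.ext (comap_map_eq_self_of_injective P₀.subtype_injective y.1))
          · dsimp only [Sum.elim_inr]
            rw [dif_neg y.2.2] }
  rw [h1]
  conv_rhs => rw [← Nat.add_zero (Nat.card {K : Subgroup P₀ // Nat.card K = p ^ a})]
  exact Nat.ModEq.add_left _ (Nat.modEq_zero_iff_dvd.2 (sq_dvd_card_not_le P ha))

end CfsgLib.SubgroupCount
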